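import Groth.Agent.RHomComplLib.HomCx
import Groth.Agent.TorsCoreflLib.GM

/-!
# Derived completion commutes with RHom
-/

set_option autoImplicit false
set_option linter.style.haveILetI false
set_option backward.isDefEq.respectTransparency false

universe u

open CategoryTheory Limits Pretriangulated CochainComplex CochainComplex.HomComplex
attribute [local instance] HasDerivedCategory.standard

noncomputable section

namespace Groth.Agent.RHomComplLib

open Groth.Agent.DComplLib

variable {A : Type u} [CommRing A]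

theorem isKInjective_cone {I J : DRing.Cx A} (φ : I ⟶ J) [I.IsKInjective] [J.IsKInjective] :
    (CochainComplex.mappingCone φ).IsKInjective := by
  rw [CochainComplex.isKInjective_iff_rightOrthogonal]
  exact ObjectProperty.ext_of_isTriangulatedClosed₃ _ _
    (HomotopyCategory.mappingCone_triangleh_distinguished φ)
    (CochainComplex.IsKInjective.rightOrthogonal I) (CochainComplex.IsKInjective.rightOrthogonal J)

/-- On the cone of a completion with respect to one element, that element is invertible. -/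
theorem isIso_smul_cone {f : A} {X Y C : Dual.D A} {η : X ⟶ Y} {π : Y ⟶ C} {δ : C ⟶ X⟦(1 : ℤ)⟧}
    (hT : Triangle.mk η π δ ∈ distTriang _)
    (hb : ∀ E : Dual.D A, ({f} : Set A) ⊆ dcIdealD E → Function.Bijective fun g : Y ⟶ E => η ≫ g) :
    IsIso (f • 𝟙 C) := by
  have hC : TorsCoreflLib.NoCompl (Ideal.span {f}) C := by
    intro E hE g
    have hE' : ({f} : Set A) ⊆ dcIdealD E := Set.Subset.trans Ideal.subset_span hE
    have hπg : π ≫ g = 0 := (hb E hE').1 (by
      show η ≫ π ≫ g = η ≫ 0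
      rw [← Category.assoc, show η ≫ π = 0 from comp_distTriang_mor_zero₁₂ _ hT, zero_comp, comp_zero])
    obtain ⟨k, hk⟩ := Triangle.yoneda_exact₃ _ hT g hπg
    obtain ⟨k', hk'⟩ := (bijective_precomp_shift η 1 hb E hE').2 k
    rw [hk, show (Triangle.mk η π δ).mor₃ = δ from rfl, ← show η⟦(1 : ℤ)⟧' ≫ k' = k from hk', ← Category.assoc,
      show δ ≫ η⟦(1 : ℤ)⟧' = 0 from comp_distTriang_mor_zero₃₁ _ hT, zero_comp]
  obtain ⟨D, π', δ', hT', -, hf⟩ := TorsCoreflLib.exists_cone f C
  have hle : (Ideal.span {f} : Ideal A) ≤ dcIdealD D :=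
    (Ideal.span_singleton_le_iff_mem _).2 (TorsCoreflLib.bd_le_dcIdealD D hf)
  have h0 : 𝟙 D = 0 := TorsCoreflLib.NoCompl.cone _ hT' hC D hle _
  exact (Triangle.isZero₃_iff_isIso₁ _ hT').1 ((IsZero.iff_id_eq_zero _).2 h0)

theorem bijective_precomp_cone {f : A} {X Y C E : Dual.D A} {η : X ⟶ Y} {π : Y ⟶ C} {δ : C ⟶ X⟦(1 : ℤ)⟧}
    (hT : Triangle.mk η π δ ∈ distTriang _) [IsIso (f • 𝟙 C)] (hE : f ∈ dcIdealD E) :
    Function.Bijective fun g : Y ⟶ E => η ≫ g := by
  haveI : IsIso (f • 𝟙 (C⟦(-1 : ℤ)⟧)) := by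
    rw [← CategoryTheory.Functor.map_id, ← Functor.map_smul]; infer_instance
  have hz := mem_dcIdealD.1 hE
  refine ⟨fun g g' h => sub_eq_zero.1 ?_, fun g => ?_⟩
  · obtain ⟨k, hk⟩ := Triangle.yoneda_exact₂ _ hT (g - g') (by
      show η ≫ (g - g') = 0
      rw [Preadditive.comp_sub]; exact sub_eq_zero.2 h)
    rw [hk, show k = 0 from eq_zero_of_isIso_smul (f := f) (X := C) hz k, comp_zero]
  · obtain ⟨k, hk⟩ := Triangle.yoneda_exact₂ _ (inv_rot_of_distTriang _ hT) g
      (eq_zero_of_isIso_smul (f := f) (X := C⟦(-1 : ℤ)⟧) hz _)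
    exact ⟨k, hk.symm⟩

variable (K : DRing.Cx A) [DRing.HasRHomCx K]

/-- The comparison map to the derived functor. -/
abbrev unit : DRing.homCxQ K ⟶ DerivedCategory.Q ⋙ DRing.RHomCx K :=
  (DRing.homCxQ K).totalRightDerivedUnit DerivedCategory.Q
    (HomologicalComplex.quasiIso (ModuleCat.{u} A) (ComplexShape.up ℤ))

theorem isIso_unit (I : DRing.Cx A) [I.IsKInjective] : IsIso ((unit K).app I) :=
  KInj.isIso_app_cx (KInj.hres_of_isGrothendieckAbelian (ModuleCat.{u} A)) (DRingLib.homKhQFac K)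
    (DRing.RHomCx K) (unit K) I

theorem mem_dcIdealD_RHomCx {f : A} {E : Dual.D A} (h : f ∈ dcIdealD E) :
    f ∈ dcIdealD ((DRing.RHomCx K).obj E) := by
  obtain ⟨I, hI, ⟨e⟩⟩ := exists_kInjective E
  haveI := hI
  haveI := isIso_unit K I
  refine mem_dcIdealD_of_iso ((asIso ((unit K).app I)) ≪≫ (DRing.RHomCx K).mapIso e)
    (mem_dcIdealD.2 fun n => ?_)
  exact (dc_HD_iff (DRing.homCx K I) n f).2 (dc_homCx K I (fun m => (dc_HD_iff I m f).1
    (mem_dcIdealD.1 (mem_dcIdealD_of_iso e.symm h) m)) n)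

theorem isCompl_homCxMap {f : A} {I J : DRing.Cx A} [I.IsKInjective] [J.IsKInjective] (φ : I ⟶ J)
    (h : IsCompl {f} (DerivedCategory.Q.map φ)) :
    IsCompl {f} (DerivedCategory.Q.map (DRing.homCxMap K φ)) where
  mem := Set.singleton_subset_iff.2 (mem_dcIdealD.2 fun n => (dc_HD_iff (DRing.homCx K J) n f).2
    (dc_homCx K J (fun m => (dc_HD_iff J m f).1 (mem_dcIdealD.1 (h.mem rfl) m)) n))
  bij E hE := by
    let C := mappingCone φ
    haveI := isKInjective_cone φ
    have hT : DerivedCategory.Q.mapTriangle.obj (mappingCone.triangle φ) ∈ distTriang _ :=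
      DerivedCategory.mappingCone_triangle_distinguished _
    haveI : IsIso (DerivedCategory.Q.map (f • 𝟙 C)) := by
      rw [Functor.map_smul, CategoryTheory.Functor.map_id]
      exact isIso_smul_cone (η := DerivedCategory.Q.map φ) hT h.bij
    haveI := isIso_Q_homCxMap K (f • 𝟙 C)
    haveI := isIso_homConeMap K φ
    let P := DRing.homCxMap K φ
    have hsm : f • 𝟙 (DRing.toD (mappingCone P)) = DerivedCategory.Q.map (homConeMap K φ) ≫
        DerivedCategory.Q.map (DRing.homCxMap K (f • 𝟙 C)) ≫ inv (DerivedCategory.Q.map (homConeMap K φ)) := by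
      rw [homCxMap_smul_id, Functor.map_smul, CategoryTheory.Functor.map_id, Linear.smul_comp,
        Linear.comp_smul, Category.id_comp, IsIso.hom_inv_id]
    haveI : IsIso (f • 𝟙 (DRing.toD (mappingCone P))) := hsm ▸ inferInstance
    exact @bijective_precomp_cone _ _ f _ _ _ _ (DerivedCategory.Q.map P) _ _
      (DerivedCategory.mappingCone_triangle_distinguished P) ‹_› (hE rfl)

theorem isCompl_RHomCx_single {f : A} {X Y : Dual.D A} (η : X ⟶ Y) (h : IsCompl {f} η) :
    IsCompl {f} ((DRing.RHomCx K).map η) := by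
  obtain ⟨I, hI, ⟨eI⟩⟩ := exists_kInjective X
  obtain ⟨J, hJ, ⟨eJ⟩⟩ := exists_kInjective Y
  haveI := hI
  haveI := hJ
  obtain ⟨φ, hφ⟩ := exists_Q_map (eI.hom ≫ η ≫ eJ.inv)
  haveI := isIso_unit K I
  haveI := isIso_unit K J
  have h1 : IsCompl {f} (DerivedCategory.Q.map φ) := hφ ▸ (h.of_iso_target eJ.symm).of_iso eI
  have n := (unit K).naturality φ
  let u := asIso ((unit K).app I)
  let v := asIso ((unit K).app J)
  have e : (DRing.RHomCx K).map η =
      (((DRing.RHomCx K).mapIso eI).symm ≪≫ u.symm).hom ≫ DerivedCategory.Q.map (DRing.homCxMap K φ) ≫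
        (v ≪≫ (DRing.RHomCx K).mapIso eJ).hom := by
    have n' : DerivedCategory.Q.map (DRing.homCxMap K φ) ≫ v.hom =
        u.hom ≫ (DRing.RHomCx K).map (DerivedCategory.Q.map φ) := n
    simp only [Iso.trans_hom, Iso.symm_hom, Functor.mapIso_hom, Functor.mapIso_inv, Category.assoc,
      reassoc_of% n', Iso.inv_hom_id_assoc, hφ, ← Functor.map_comp]
    simp
  rw [e]
  exact ((isCompl_homCxMap K φ h1).of_iso_target _).of_iso _

theorem isCompl_RHomCx_compList : ∀ (s : List A) (X : DRing.Cx A),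
    IsCompl {f | f ∈ s} ((DRing.RHomCx K).map (DerivedCategory.Q.map (compListη s X)))
  | [], X => ⟨fun f hf => by simp at hf, fun E _ => by
      simp only [compListη, CategoryTheory.Functor.map_id, Category.id_comp]
      exact Function.bijective_id⟩
  | f :: t, X => by
    have e : ({g | g ∈ f :: t} : Set A) = {g | g ∈ t} ∪ {f} := by
      ext g; simp [or_comm]
    rw [e]
    have he : DerivedCategory.Q.map (compListη (f :: t) X) =
        DerivedCategory.Q.map (compListη t X) ≫ DerivedCategory.Q.map (stepη f (compList t X)) :=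
      Functor.map_comp _ _ _
    rw [he, Functor.map_comp]
    exact (isCompl_RHomCx_compList t X).comp (isCompl_RHomCx_single K _ (isCompl_step f _)) fun g hg =>
      mem_dcIdealD_RHomCx K (mem_dcIdealD_step f _ ((isCompl_compList t X).mem hg))

/-- `RHom(K, L^)` is the completion of `RHom(K, L)`. -/
theorem isCompl_RHomCx {I : Ideal A} (hI : I.FG) [DRing.HasDerivedCompletion I] (L : Dual.D A) :
    IsCompl (I : Set A) ((DRing.RHomCx K).map (DRing.toDerivedCompletion I L)) := by
  obtain ⟨s, hs⟩ := exists_ofList hI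
  let X := DerivedCategory.Q.objPreimage L
  let eX : DRing.toD X ≅ L := DerivedCategory.Q.objObjPreimageIso L
  let ηs := DerivedCategory.Q.map (compListη s X)
  obtain ⟨e, he⟩ := (((isCompl_compList s X).span hs).of_iso eX.symm).exists_iso
    (isCompl_toDerivedCompletion (I := I) L)
  rw [← he, Functor.map_comp, Functor.map_comp]
  exact (((isCompl_RHomCx_compList K s X).span hs).of_iso ((DRing.RHomCx K).mapIso eX.symm)).of_iso_target
    ((DRing.RHomCx K).mapIso e)

end Groth.Agent.RHomComplLib
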