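import Groth.Agent.RHomComplLib.SumCx
import Groth.Agent.RHomComplLib.Main
import Groth.Agent.ExtCechLib.Basic
import Groth.Prelude.Def_DerCA

/-!
# Derived completion is RHom out of the extended Čech complex
-/

set_option autoImplicit false
set_option linter.style.haveILetI false
set_option backward.isDefEq.respectTransparency false

universe u

open CategoryTheory Limits Pretriangulated CochainComplex CochainComplex.HomComplex DerCA
attribute [local instance] HasDerivedCategory.standard

noncomputable section

namespace Groth.Agent.RHomComplLib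

open Groth.Agent.DComplLib Groth.Agent.DRingLib

variable {A : Type u} [CommRing A]

theorem bijective_smul_loc (f : A) (M : ModuleCat.{u} A) :
    Function.Bijective fun y : LocalizedModule (Submonoid.powers f) M => f • y := by
  have h := (Module.End.isUnit_iff _).1 (IsLocalizedModule.map_units
    (LocalizedModule.mkLinearMap (Submonoid.powers f) M) (⟨f, Submonoid.mem_powers f⟩ : Submonoid.powers f))
  exact h

variable {f : A} {K L : DRing.Cx A} (φ : K ⟶ L)

/-- A mapping cocone, as an extension of its first projection. -/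
def coconeSC : ShortComplex (DRing.Cx A) :=
  ShortComplex.mk (kernel.ι (mappingCocone.fst φ)) (mappingCocone.fst φ) (kernel.condition _)

/-- The degreewise splitting. -/
def coconeSplitting (q : ℤ) :
    ((coconeSC φ).map (HomologicalComplex.eval (ModuleCat.{u} A) (ComplexShape.up ℤ) q)).Splitting :=
  have : Mono (coconeSC φ).f := inferInstanceAs (Mono (kernel.ι _))
  have : Mono ((coconeSC φ).map (HomologicalComplex.eval (ModuleCat.{u} A) (ComplexShape.up ℤ) q)).f :=
    inferInstanceAs (Mono ((HomologicalComplex.eval (ModuleCat.{u} A) (ComplexShape.up ℤ) q).map (coconeSC φ).f))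
  ShortComplex.Splitting.ofExactOfSection _
    ((ShortComplex.exact_of_f_is_kernel (coconeSC φ) (kernelIsKernel _)).map
      (HomologicalComplex.eval (ModuleCat.{u} A) (ComplexShape.up ℤ) q))
    ((mappingCocone.inl φ).v q q (add_zero q)) (mappingCocone.inl_v_fst_f φ q) this

theorem isIso_smul_coconeSC (hL : ∀ i, Function.Bijective fun y : L.X i => f • y) :
    IsIso (f • 𝟙 (coconeSC φ).X₁) := by
  haveI : ∀ q, IsIso ((f • 𝟙 (coconeSC φ).X₁).f q) := fun q => by
    rw [HomologicalComplex.smul_f_apply, HomologicalComplex.id_f]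
    let σ := coconeSplitting φ q
    let k : (coconeSC φ).X₁.X q →ₗ[A] (mappingCocone φ).X q := ((coconeSC φ).f.f q).hom
    let p : (mappingCocone φ).X q →ₗ[A] K.X q := ((mappingCocone.fst φ).f q).hom
    let il : K.X q →ₗ[A] (mappingCocone φ).X q := ((mappingCocone.inl φ).v q q (add_zero q)).hom
    let b : (mappingCocone φ).X q →ₗ[A] L.X (q - 1) := ((mappingCocone.snd φ).v q (q - 1) (by omega)).hom
    let j : L.X (q - 1) →ₗ[A] (mappingCocone φ).X q := ((mappingCocone.inr φ).1.v (q - 1) q (by omega)).hom
    have hk : Function.Injective k := Function.LeftInverse.injective (g := σ.r.hom) fun x => congr($(σ.f_r).hom x)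
    have hsum : ∀ y, il (p y) + j (b y) = y := fun y =>
      congr($(mappingCocone.id_X φ q (q - 1) (by omega)).hom y)
    have hpk : ∀ x, p (k x) = 0 := fun x =>
      congr($(HomologicalComplex.congr_hom (coconeSC φ).zero q).hom x)
    have hrange : ∀ y, p y = 0 → ∃ x, k x = y := fun y hy => ⟨σ.r.hom y, by
      have e : k (σ.r.hom y) + il (p y) = y := congr($(σ.id).hom y)
      rw [hy, map_zero, add_zero] at e
      exact e⟩
    have hbj : ∀ z, b (j z) = z := fun z => congr($(mappingCocone.inr_v_snd_v φ (q - 1) q (by omega)).hom z)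
    have hpj : ∀ z, p (j z) = 0 := fun z => congr($(mappingCocone.inr_v_fst_f φ (q - 1) q (by omega)).hom z)
    refine (ConcreteCategory.isIso_iff_bijective _).2 ⟨fun x x' hx => hk ?_, fun x => ?_⟩
    · have hx' : f • x = f • x' := hx
      have e : b (k x) = b (k x') := (hL (q - 1)).1 (by
        show f • b (k x) = f • b (k x')
        rw [← map_smul, ← map_smul, ← map_smul, ← map_smul, hx'])
      rw [← hsum (k x), ← hsum (k x'), hpk, hpk, e]
    · obtain ⟨z, hz⟩ := (hL (q - 1)).2 (b (k x))
      obtain ⟨x', hx'⟩ := hrange (j z) (hpj z)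
      refine ⟨x', hk ?_⟩
      show k (f • x') = k x
      rw [map_smul, hx', ← map_smul, show f • z = b (k x) from hz]
      conv_rhs => rw [← hsum (k x), hpk, map_zero, zero_add]
  exact HomologicalComplex.Hom.isIso_of_components _

theorem isCompl_homCxPre_fst (hL : ∀ i, Function.Bijective fun y : L.X i => f • y) (I : DRing.Cx A) [I.IsKInjective]
    (h : ∀ (n : ℤ) (c : (mappingCocone φ).homology n), ∃ N : ℕ, f ^ N • c = 0) :
    IsCompl {f} (DerivedCategory.Q.map (homCxPre (mappingCocone.fst φ) I)) where
  mem := Set.singleton_subset_iff.2 (mem_dcIdealD.2 fun n => (dc_HD_iff (DRing.homCx (mappingCocone φ) I) n f).2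
    (dc_homCx_of_torsion f (mappingCocone φ) I h n))
  bij E hE := by
    have hSE : (homShortComplex I (coconeSC φ)).ShortExact :=
      HomologicalComplex.shortExact_of_degreewise_shortExact _ fun n =>
        (homSplitting I (coconeSC φ) (coconeSplitting φ) n).shortExact
    haveI := isIso_smul_coconeSC φ hL
    haveI : IsIso (homCxPre (f • 𝟙 (coconeSC φ).X₁) I) :=
      ⟨homCxPre (inv (f • 𝟙 (coconeSC φ).X₁)) I, by rw [← homCxPre_comp, IsIso.inv_hom_id, homCxPre_id],
        by rw [← homCxPre_comp, IsIso.hom_inv_id, homCxPre_id]⟩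
    haveI : IsIso (f • 𝟙 (DRing.toD (DRing.homCx (coconeSC φ).X₁ I))) := by
      rw [← CategoryTheory.Functor.map_id, ← Functor.map_smul, ← homCxPre_id, ← homCxPre_smul]
      infer_instance
    exact @bijective_precomp_cone _ _ f _ _ _ _ (DerivedCategory.Q.map (homCxPre (mappingCocone.fst φ) I)) _ _
      (DerivedCategory.triangleOfSES_distinguished hSE) ‹_› (hE rfl)

theorem exists_isCompl_extCech (I : DRing.Cx A) [I.IsKInjective] : ∀ fs : List A,
    ∃ η : DRing.toD I ⟶ DRing.toD (DRing.homCx (extCech (ModuleCat.of A A) fs) I),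
      IsCompl {g | g ∈ fs} η
  | [] => by
    let e : DRing.toD I ≅ DRing.toD (DRing.homCx (extCech (ModuleCat.of A A) []) I) :=
      (DerivedCategory.Q.mapIso (homSingleUnitIso I 0 ≪≫ (shiftFunctorZero (DRing.Cx A) ℤ).app I)).symm
    exact ⟨e.hom, ⟨fun g hg => by simp at hg, fun E _ => e.symm.homFromEquiv.bijective⟩⟩
  | f :: fs => by
    obtain ⟨η, hη⟩ := exists_isCompl_extCech I fs
    let φ := locCxUnit (Submonoid.powers f) (extCech (ModuleCat.of A A) fs)
    have htors : ∀ g ∈ f :: fs, ∀ (n : ℤ) (c : (extCech (ModuleCat.of A A) (f :: fs)).homology n),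
        ∃ N : ℕ, g ^ N • c = 0 := fun g hg n c => by
      obtain ⟨N, -, hN⟩ := ExtCechLib.exists_pow_smul_eq_zero (ModuleCat.of A A) (f :: fs) n c
      exact ⟨N, hN g hg⟩
    have e : ({g | g ∈ f :: fs} : Set A) = {g | g ∈ fs} ∪ {f} := by
      ext g; simp [or_comm]
    rw [e]
    exact ⟨_, hη.comp (isCompl_homCxPre_fst φ (fun i => bijective_smul_loc f ((extCech (ModuleCat.of A A) fs).X i)) I
      (htors f List.mem_cons_self)) fun g hg => mem_dcIdealD.2 fun n =>
        (dc_HD_iff (DRing.homCx (extCech (ModuleCat.of A A) (f :: fs)) I) n g).2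
          (dc_homCx_of_torsion g _ I (htors g (List.mem_cons_of_mem f hg)) n)⟩

end Groth.Agent.RHomComplLib
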