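import Groth.Agent.RHomComplLib.FlatMod
import Groth.Agent.DComplLib.FiniteCompl

/-!
# The completion of the tensor product of a finite module and a flat module
-/

set_option autoImplicit false
set_option linter.style.haveILetI false
set_option backward.isDefEq.respectTransparency false

universe u

open CategoryTheory Limits Pretriangulated
open scoped TensorProduct
attribute [local instance] HasDerivedCategory.standard

noncomputable section

namespace Groth.Agent.RHomComplLib

open Groth.Agent.DComplLib

variable {A : Type u} [CommRing A]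

/-- One completion step when the cohomology sits in degree zero and has bounded torsion. -/
theorem step_degree_zero (f : A) (K : DRing.Cx A)
    (h : ∀ i : ℤ, i ≠ 0 → Subsingleton (Dual.HD A (DRing.toD K) i)) (hbt : BT f (Dual.HD A (DRing.toD K) 0)) :
    (∀ i : ℤ, i ≠ 0 → Subsingleton (Dual.HD A (DRing.toD (step f K)) i)) ∧
      ∃ q : (ℕ → Dual.HD A (DRing.toD K) 0) →ₗ[A] Dual.HD A (DRing.toD (step f K)) 0, Function.Surjective q ∧
        LinearMap.ker q = LinearMap.range (phiLin f (Dual.HD A (DRing.toD K) 0)) := by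
  let T := DerivedCategory.Q.mapTriangle.obj (CochainComplex.mappingCone.triangle (phiMap f K))
  have hT : T ∈ distTriang (Dual.D A) := DerivedCategory.mappingCone_triangle_distinguished _
  have hinj : ∀ m, BT f (Dual.HD A (DRing.toD K) m) → Function.Injective (hM (phiMap f K) m) :=
    fun m hm x y hxy => (bijective_seqD K m).1 (phiLin_injective f _ hm (by rw [← seqD_phi, ← seqD_phi, hxy]))
  have hsurj : ∀ n : ℤ, BT f (Dual.HD A (DRing.toD K) (n + 1)) →
      Function.Surjective (hM (CochainComplex.mappingCone.inr (phiMap f K)) n) := fun n hn =>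
    (ModuleCat.epi_iff_surjective _).1 ((DerivedCategory.HomologySequence.epi_homologyMap_mor₂_iff T hT n (n + 1)).2
      ((DerivedCategory.HomologySequence.mono_homologyMap_mor₁_iff T hT n (n + 1)).1
        ((ModuleCat.mono_iff_injective _).2 (hinj (n + 1) hn))))
  have hbt' : ∀ m : ℤ, BT f (Dual.HD A (DRing.toD K) m) := fun m => by
    by_cases hm : m = 0
    · subst hm; exact hbt
    · haveI := h m hm
      exact ⟨0, fun x k _ => Subsingleton.elim _ _⟩
  refine ⟨fun i hi => ?_, ?_⟩
  · haveI := h i hi
    haveI : Subsingleton (Dual.HD A (DRing.toD (seqCx K)) i) := (bijective_seqD K i).1.subsingleton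
    exact (hsurj i (hbt' (i + 1))).subsingleton
  · let inr' := hM (CochainComplex.mappingCone.inr (phiMap f K)) (0 : ℤ)
    let e := LinearEquiv.ofBijective (seqD K 0) (bijective_seqD K 0)
    have hex : Function.Exact (hM (phiMap f K) (0 : ℤ)) inr' :=
      (ShortComplex.ShortExact.moduleCat_exact_iff_function_exact _).1
        (DerivedCategory.HomologySequence.exact₂ T hT 0)
    refine ⟨inr' ∘ₗ e.symm.toLinearMap, (hsurj 0 (hbt' _)).comp e.symm.surjective, ?_⟩
    ext z
    rw [LinearMap.mem_ker, LinearMap.mem_range]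
    refine ⟨fun h => ?_, ?_⟩
    · obtain ⟨x, hx⟩ := (hex (e.symm z)).1 h
      exact ⟨seqD K 0 x, by rw [← seqD_phi, hx]; exact e.apply_symm_apply z⟩
    · rintro ⟨w, rfl⟩
      obtain ⟨x, rfl⟩ := e.surjective w
      show inr' (e.symm _) = 0
      rw [show phiLin f _ (e x) = e (hM (phiMap f K) (0 : ℤ) x) from (seqD_phi f K 0 x).symm, e.symm_apply_apply]
      exact hex.apply_apply_eq_zero x

variable [IsNoetherianRing A]

theorem compList_degree_zero (P : DRing.Cx A) (hP : ∀ i : ℤ, i ≠ 0 → Subsingleton (Dual.HD A (DRing.toD P) i))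
    (hT : ARGood (A := A) (Dual.HD A (DRing.toD P) 0)) : ∀ (s : List A),
    (∀ i : ℤ, i ≠ 0 → Subsingleton (Dual.HD A (DRing.toD (compList s P)) i)) ∧
      (∀ J : Ideal A, (∀ g ∈ s, g ∈ J) → Reduc J (hM (compListη s P) 0)) ∧
        IsAdicComplete (Ideal.ofList s) (Dual.HD A (DRing.toD (compList s P)) 0)
  | [] => ⟨hP, fun J _ => by
      show Reduc J (hM (𝟙 P) 0)
      rw [hM_id]
      exact reduc_id J _, by
      rw [Ideal.ofList_nil]
      infer_instance⟩
  | f :: t => by
    obtain ⟨hz, hR, hC⟩ := compList_degree_zero P hP hT t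
    haveI := hC
    have hι := hR (Ideal.ofList t) fun g hg => Ideal.subset_span hg
    have hbt : BT f (Dual.HD A (DRing.toD (compList t P)) 0) := bt_completion hT hι (reduc_happ hι) f
    obtain ⟨hz', q, hq, hker⟩ := step_degree_zero f (compList t P) hz hbt
    refine ⟨hz', fun J hJ => ?_, ?_⟩
    · show Reduc J (hM (compListη t P ≫ stepη f (compList t P)) 0)
      rw [hM_comp]
      exact (hR J fun g hg => hJ g (List.mem_cons_of_mem f hg)).comp
        (reduc_stepη f (compList t P) 0 (by
          haveI := hz (0 + 1) (by decide)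
          exact ⟨0, fun x k _ => Subsingleton.elim _ _⟩) (hJ f List.mem_cons_self))
    · haveI : IsHausdorff (Ideal.ofList (f :: t)) (Dual.HD A (DRing.toD (compList (f :: t) P)) 0) := by
        rw [Ideal.ofList_cons]
        exact isHausdorff_step hT hι f q hq hker
      haveI : IsPrecomplete (Ideal.ofList (f :: t)) (Dual.HD A (DRing.toD (compList (f :: t) P)) 0) :=
        AdicCompletion.of_surjective_iff.1 (adicCompletion_of_surjective (IsNoetherian.noetherian _) fun g hg =>
          mem_dcIdealD.1 (((isCompl_compList (f :: t) P).span (I := Ideal.ofList (f :: t)) rfl).mem hg) 0)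
      exact ⟨⟩

theorem completion_tensor_flat (I : Ideal A) [DRing.HasDerivedCompletion I]
    (M N : Type u) [AddCommGroup M] [Module A M] [Module.Finite A M] [AddCommGroup N] [Module A N] [Module.Flat A N] :
    (∀ i : ℤ, i ≠ 0 → Subsingleton (Dual.HD A ((DRing.derivedCompletion I).obj (Dual.inD A (M ⊗[A] N))).obj i)) ∧
      ∃ e : Dual.HD A ((DRing.derivedCompletion I).obj (Dual.inD A (M ⊗[A] N))).obj 0 ≃ₗ[A]
          AdicCompletion I (M ⊗[A] N),
        ∀ x : M ⊗[A] N,
          e ((((DerivedCategory.singleFunctorCompHomologyFunctorIso (ModuleCat.{u} A) 0).inv.app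
                (ModuleCat.of A (M ⊗[A] N))) ≫
              (DerivedCategory.homologyFunctor (ModuleCat.{u} A) 0).map
                (DRing.toDerivedCompletion I (Dual.inD A (M ⊗[A] N)))).hom x) =
            AdicCompletion.of I (M ⊗[A] N) x := by
  obtain ⟨s, hs⟩ := exists_ofList (I.fg_of_isNoetherianRing)
  let K := Dual.inD A (M ⊗[A] N)
  let P := DerivedCategory.Q.objPreimage K
  let eP : DRing.toD P ≅ K := DerivedCategory.Q.objObjPreimageIso K
  have hP : ∀ i : ℤ, i ≠ 0 → Subsingleton (Dual.HD A (DRing.toD P) i) := fun i hi => by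
    haveI : Subsingleton ((DerivedCategory.homologyFunctor (ModuleCat.{u} A) i).obj K) :=
      ModuleCat.subsingleton_of_isZero (by
        rcases lt_or_gt_of_ne hi with h | h
        · exact DerivedCategory.isZero_of_isGE K 0 i h
        · exact DerivedCategory.isZero_of_isLE K 0 i h)
    exact ((DerivedCategory.homologyFunctor _ i).mapIso eP).toLinearEquiv.injective.subsingleton
  let α : (M ⊗[A] N) ≃ₗ[A] Dual.HD A (DRing.toD P) 0 :=
    ((DerivedCategory.singleFunctorCompHomologyFunctorIso (ModuleCat.{u} A) 0).symm.app (ModuleCat.of A (M ⊗[A] N)) ≪≫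
      (DerivedCategory.homologyFunctor (ModuleCat.{u} A) 0).mapIso eP.symm).toLinearEquiv
  have hG : ARGood (A := A) (Dual.HD A (DRing.toD P) 0) := by
    have hG₀ := arGood_tensor (A := A) M N
    refine ⟨fun J g => ?_, fun g => ?_⟩
    · obtain ⟨c, hc⟩ := hG₀.ar J g
      refine ⟨c, fun n y hy => ?_⟩
      obtain ⟨τ, hτ, hd⟩ := hc n (α.symm y) (by
        have := Submodule.mem_map_of_mem (f := α.symm.toLinearMap) hy
        rw [Submodule.map_smul''] at this
        simpa using Submodule.smul_mono le_rfl le_top this)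
      refine ⟨α τ, by rw [← map_smul, hτ, map_zero], ?_⟩
      have := Submodule.mem_map_of_mem (f := α.toLinearMap) hd
      rw [Submodule.map_smul''] at this
      simpa using Submodule.smul_mono (le_refl (J ^ n)) le_top this
    · obtain ⟨B, hB⟩ := hG₀.bt g
      exact ⟨B, fun y k hk => α.symm.injective (by
        rw [map_smul, map_zero]
        exact hB _ k (by rw [← map_smul, hk, map_zero]))⟩
  obtain ⟨hz, hR, hC⟩ := compList_degree_zero P hP hG s
  obtain ⟨e', he'⟩ := (((isCompl_compList s P).span hs).of_iso eP.symm).exists_iso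
    (isCompl_toDerivedCompletion (I := I) K)
  refine ⟨fun i hi => ?_, ?_⟩
  · haveI := hz i hi
    exact ((DerivedCategory.homologyFunctor _ i).mapIso e').toLinearEquiv.symm.injective.subsingleton
  · let β := ((DerivedCategory.homologyFunctor (ModuleCat.{u} A) (0 : ℤ)).mapIso e').toLinearEquiv
    haveI : IsAdicComplete I (Dual.HD A (DRing.toD (compList s P)) 0) := hs ▸ hC
    obtain ⟨e, he⟩ := exists_equiv_of_reduc (I := I) ((Reduc.of_equiv α).comp
      (hR I fun g hg => hs ▸ Ideal.subset_span hg))
    refine ⟨β.symm.trans e, fun x => ?_⟩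
    rw [LinearEquiv.trans_apply, ← he x]
    refine congrArg e ?_
    rw [LinearEquiv.symm_apply_eq, ← he', Functor.map_comp, Functor.map_comp]
    rfl

end Groth.Agent.RHomComplLib
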