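import Groth.Agent.DComplLib.ModStep
import Groth.Agent.DComplLib.ModThms
import Mathlib.RingTheory.Filtration
import Mathlib.RingTheory.Flat.Basic

/-!
# Completion of tensor products of finite modules with flat modules
-/

set_option autoImplicit false
set_option linter.style.haveILetI false

universe u

open Function
open scoped TensorProduct

noncomputable section

namespace Groth.Agent.RHomComplLib

open Groth.Agent.DComplLib

variable {A : Type u} [CommRing A]

/-- The torsion of a module is bounded and behaves well with respect to adic topologies. -/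
structure ARGood (T : Type u) [AddCommGroup T] [Module A T] : Prop where
  ar : ∀ (J : Ideal A) (g : A), ∃ c : ℕ, ∀ (n : ℕ) (y : T), g • y ∈ J ^ (n + c) • (⊤ : Submodule A T) →
    ∃ τ : T, g • τ = 0 ∧ y - τ ∈ J ^ n • (⊤ : Submodule A T)
  bt : ∀ g : A, BT g T

theorem tensor_ker_mem {M N : Type u} [AddCommGroup M] [Module A M] [AddCommGroup N] [Module A N] [Module.Flat A N]
    {P : Type u} [AddCommGroup P] [Module A P] (φ : M →ₗ[A] P) (S : Submodule A (M ⊗[A] N))
    (hS : ∀ m n, φ m = 0 → m ⊗ₜ[A] n ∈ S) {y : M ⊗[A] N} (hy : LinearMap.rTensor N φ y = 0) : y ∈ S := by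
  obtain ⟨z, rfl⟩ := (Module.Flat.rTensor_exact N (LinearMap.exact_subtype_ker_map φ) y).1 hy
  induction z using TensorProduct.induction_on with
  | zero => simp
  | add a b ha hb =>
    rw [map_add] at hy ⊢
    have key : ∀ w, LinearMap.rTensor N φ (LinearMap.rTensor N (LinearMap.ker φ).subtype w) = 0 := fun w =>
      (Module.Flat.rTensor_exact N (LinearMap.exact_subtype_ker_map φ) _).2 ⟨w, rfl⟩
    exact add_mem (ha (key a)) (hb (key b))
  | tmul m n => exact hS _ _ m.2

theorem tmul_mem_smul_top {M N : Type u} [AddCommGroup M] [Module A M] [AddCommGroup N] [Module A N]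
    {J : Ideal A} {m : M} (hm : m ∈ J • (⊤ : Submodule A M)) (n : N) :
    m ⊗ₜ[A] n ∈ J • (⊤ : Submodule A (M ⊗[A] N)) := by
  have h := Submodule.mem_map_of_mem (f := (TensorProduct.mk A M N).flip n) hm
  rw [Submodule.map_smul''] at h
  exact Submodule.smul_mono le_rfl le_top h

theorem arGood_tensor [IsNoetherianRing A] (M N : Type u) [AddCommGroup M] [Module A M] [Module.Finite A M]
    [AddCommGroup N] [Module A N] [Module.Flat A N] : ARGood (A := A) (M ⊗[A] N) where
  ar J g := by
    obtain ⟨c, hc⟩ := J.exists_pow_inf_eq_pow_smul (LinearMap.range (g • LinearMap.id : M →ₗ[A] M))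
    refine ⟨c, fun n y hy => ?_⟩
    let φ : M →ₗ[A] M ⧸ J ^ (n + c) • (⊤ : Submodule A M) := (Submodule.mkQ _).comp (g • LinearMap.id)
    let S : Submodule A (M ⊗[A] N) :=
      LinearMap.ker (g • LinearMap.id : M ⊗[A] N →ₗ[A] M ⊗[A] N) ⊔ J ^ n • ⊤
    have hy' : LinearMap.rTensor N φ y = 0 := by
      rw [show LinearMap.rTensor N φ y = LinearMap.rTensor N (Submodule.mkQ _) (g • y) by
        rw [LinearMap.rTensor_comp, LinearMap.comp_apply]
        simp]
      refine Submodule.smul_induction_on hy (fun r hr w hw => ?_) fun a b ha hb => by rw [map_add, ha, hb, add_zero]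
      clear hw
      rw [map_smul]
      induction w using TensorProduct.induction_on with
      | zero => simp
      | add a b ha hb => rw [map_add, smul_add, ha, hb, add_zero]
      | tmul m v =>
        rw [LinearMap.rTensor_tmul, TensorProduct.smul_tmul', ← map_smul, Submodule.mkQ_apply,
          (Submodule.Quotient.mk_eq_zero _).2 (Submodule.smul_mem_smul hr Submodule.mem_top), TensorProduct.zero_tmul]
    have hyS : y ∈ S := tensor_ker_mem φ S (fun m v hm => by
      have hm' : g • m ∈ J ^ (n + c) • (⊤ : Submodule A M) ⊓ LinearMap.range (g • LinearMap.id : M →ₗ[A] M) :=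
        ⟨(Submodule.Quotient.mk_eq_zero _).1 hm, ⟨m, rfl⟩⟩
      rw [hc (n + c) (Nat.le_add_left c n), Nat.add_sub_cancel] at hm'
      have h2 : g • m ∈ Submodule.map (g • LinearMap.id : M →ₗ[A] M) (J ^ n • ⊤) := by
        rw [Submodule.map_smul'', Submodule.map_top]
        exact Submodule.smul_mono le_rfl inf_le_right hm'
      obtain ⟨m', hm1, hm2⟩ := h2
      have e : g • (m - m') = 0 := by
        rw [smul_sub, sub_eq_zero]
        exact hm2.symm
      rw [← sub_add_cancel m m', TensorProduct.add_tmul]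
      refine add_mem (Submodule.mem_sup_left ?_) (Submodule.mem_sup_right (tmul_mem_smul_top hm1 v))
      rw [LinearMap.mem_ker, LinearMap.smul_apply, LinearMap.id_apply, TensorProduct.smul_tmul', e,
        TensorProduct.zero_tmul]) hy'
    obtain ⟨τ, hτ, w, hw, rfl⟩ := Submodule.mem_sup.1 hyS
    exact ⟨τ, hτ, by rwa [add_sub_cancel_left]⟩
  bt g := by
    let T : ℕ →o Submodule A M :=
      ⟨fun k => LinearMap.ker (LinearMap.lsmul A M (g ^ k)), fun a b hab x hx => by
        simp only [LinearMap.mem_ker, LinearMap.lsmul_apply] at hx ⊢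
        rw [← Nat.sub_add_cancel hab, pow_add, mul_smul, hx, smul_zero]⟩
    obtain ⟨N₀, hN₀⟩ := monotone_stabilizes_iff_noetherian.2 inferInstance T
    refine ⟨N₀, fun y k hk => ?_⟩
    refine tensor_ker_mem (LinearMap.lsmul A M (g ^ k))
      (LinearMap.ker (LinearMap.lsmul A (M ⊗[A] N) (g ^ N₀))) (fun m v hm => ?_) (y := y) ?_
    · have hm' : m ∈ T N₀ := by
        rcases le_total N₀ k with hle | hle
        · exact (hN₀ k hle).symm ▸ hm
        · exact T.monotone hle hm
      change g ^ N₀ • m = 0 at hm'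
      show g ^ N₀ • (m ⊗ₜ[A] v) = 0
      rw [TensorProduct.smul_tmul', hm', TensorProduct.zero_tmul]
    · have key : ∀ w : M ⊗[A] N, LinearMap.rTensor N (LinearMap.lsmul A M (g ^ k)) w = g ^ k • w := fun w => by
        induction w using TensorProduct.induction_on with
        | zero => simp
        | add a b ha hb => rw [map_add, ha, hb, smul_add]
        | tmul m v => rw [LinearMap.rTensor_tmul, TensorProduct.smul_tmul']; rfl
      rw [key y, hk]

variable {T H : Type u} [AddCommGroup T] [Module A T] [AddCommGroup H] [Module A H] {J : Ideal A} {ι : T →ₗ[A] H}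

theorem bt_completion (hT : ARGood (A := A) T) (hι : Reduc J ι) [IsAdicComplete J H]
    (happ : ∀ (x : H) (n : ℕ), ∃ t : T, x - ι t ∈ J ^ n • (⊤ : Submodule A H)) (f : A) : BT f H := by
  obtain ⟨N, hN⟩ := hT.bt f
  refine ⟨N, fun x k hk => IsHausdorff.haus (I := J) inferInstance _ fun n => SModEq.zero.2 ?_⟩
  obtain ⟨c, hc⟩ := hT.ar J (f ^ k)
  obtain ⟨t, ht⟩ := happ x (n + c)
  have h1 : f ^ k • t ∈ J ^ (n + c) • (⊤ : Submodule A T) := hι.inj _ _ (by
    have := Submodule.smul_mem _ (f ^ k) ht
    rw [smul_sub, hk, zero_sub, neg_mem_iff] at this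
    rwa [map_smul])
  obtain ⟨τ, hτ, hd⟩ := hc n t h1
  have h2 : f ^ N • t ∈ J ^ n • (⊤ : Submodule A T) := by
    have := Submodule.smul_mem _ (f ^ N) hd
    rwa [smul_sub, hN τ k hτ, sub_zero] at this
  have h3 := Submodule.mem_map_of_mem (f := ι) h2
  rw [Submodule.map_smul'', map_smul] at h3
  have h4 := add_mem (Submodule.smul_mem _ (f ^ N)
      (Submodule.smul_mono_left (Ideal.pow_le_pow_right (Nat.le_add_right n c)) ht))
    (Submodule.smul_mono le_rfl le_top h3 : f ^ N • ι t ∈ J ^ n • (⊤ : Submodule A H))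
  rwa [← smul_add, sub_add_cancel] at h4

theorem closed_completion (hT : ARGood (A := A) T) (hι : Reduc J ι) [IsAdicComplete J H]
    (happ : ∀ (x : H) (n : ℕ), ∃ t : T, x - ι t ∈ J ^ n • (⊤ : Submodule A H)) (g : A) (x : H)
    (hx : ∀ n, ∃ h : H, x - g • h ∈ J ^ n • (⊤ : Submodule A H)) : ∃ h : H, g • h = x := by
  obtain ⟨c, hc⟩ := hT.ar J g
  have hy : ∀ n, ∃ y : T, x - ι (g • y) ∈ J ^ n • (⊤ : Submodule A H) := fun n => by
    obtain ⟨h, hh⟩ := hx n
    obtain ⟨y, hy⟩ := happ h n
    refine ⟨y, ?_⟩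
    have := add_mem hh (Submodule.smul_mem _ g hy)
    rwa [smul_sub, sub_add_sub_cancel, ← map_smul] at this
  choose y hy using hy
  have hstep : ∀ (m : ℕ) (p : T), x - ι (g • p) ∈ J ^ (m + c) • (⊤ : Submodule A H) →
      ∃ p' : T, x - ι (g • p') ∈ J ^ (m + 1 + c) • (⊤ : Submodule A H) ∧ p' - p ∈ J ^ m • (⊤ : Submodule A T) := by
    intro m p hp
    obtain ⟨τ, hτ, hd⟩ := hc m (y (m + 1 + c) - p) (hι.inj _ _ (by
      have := sub_mem hp (Submodule.smul_mono_left (Ideal.pow_le_pow_right (by omega)) (hy (m + 1 + c)))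
      rwa [sub_sub_sub_cancel_left, ← map_sub, ← smul_sub] at this))
    exact ⟨y (m + 1 + c) - τ, by rw [smul_sub, hτ, sub_zero]; exact hy _, by rwa [sub_right_comm]⟩
  choose p' hp' hp'' using hstep
  let Y : ∀ m, { p : T // x - ι (g • p) ∈ J ^ (m + c) • (⊤ : Submodule A H) } := fun m =>
    Nat.rec ⟨y (0 + c), hy _⟩ (fun m p => ⟨p' m p.1 p.2, hp' m p.1 p.2⟩) m
  have hY : ∀ m n, m ≤ n → (Y n).1 - (Y m).1 ∈ J ^ m • (⊤ : Submodule A T) := fun m n hmn => by
    induction n, hmn using Nat.le_induction with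
    | base => simp
    | succ n hmn ih =>
      have := add_mem ih (Submodule.smul_mono_left (Ideal.pow_le_pow_right hmn) (hp'' n _ (Y n).2))
      rwa [add_comm, sub_add_sub_cancel] at this
  obtain ⟨h, hh⟩ := IsPrecomplete.prec (I := J) inferInstance (f := fun m => ι (Y m).1) (fun {m n} hmn => by
    refine (SModEq.sub_mem.2 ?_).symm
    have := Submodule.mem_map_of_mem (f := ι) (hY m n hmn)
    rw [Submodule.map_smul'', map_sub] at this
    exact Submodule.smul_mono le_rfl le_top this)
  refine ⟨h, sub_eq_zero.1 (IsHausdorff.haus (I := J) inferInstance _ fun n => SModEq.zero.2 ?_)⟩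
  have h1 := Submodule.smul_mem _ g (SModEq.sub_mem.1 (hh n))
  have h2 : x - ι (g • (Y n).1) ∈ J ^ n • (⊤ : Submodule A H) :=
    Submodule.smul_mono_left (Ideal.pow_le_pow_right (Nat.le_add_right n c)) (Y n).2
  have e : g • h - x = -(g • (ι (Y n).1 - h)) - (x - ι (g • (Y n).1)) := by
    rw [map_smul, smul_sub]; abel
  rw [e]
  exact sub_mem (neg_mem h1) h2

theorem reduc_happ (hι : Reduc J ι) (x : H) (n : ℕ) : ∃ t : T, x - ι t ∈ J ^ n • (⊤ : Submodule A H) := by
  induction n with
  | zero => exact ⟨0, by rw [pow_zero, Submodule.one_smul]; trivial⟩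
  | succ n ih =>
    obtain ⟨t, ht⟩ := ih
    suffices key : ∀ w ∈ J ^ n • (⊤ : Submodule A H), ∃ s : T, w - ι s ∈ J ^ (n + 1) • (⊤ : Submodule A H) by
      obtain ⟨s, hs⟩ := key _ ht
      exact ⟨t + s, by rwa [map_add, ← sub_sub]⟩
    intro w hw
    refine Submodule.smul_induction_on hw (fun r hr v _ => ?_) fun a b ⟨s, hs⟩ ⟨s', hs'⟩ => ⟨s + s', ?_⟩
    · obtain ⟨s, hs⟩ := hι.gen v
      refine ⟨r • s, ?_⟩
      rw [map_smul, ← smul_sub, pow_succ, Submodule.mul_smul]
      exact Submodule.smul_mem_smul hr hs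
    · rw [map_add, add_sub_add_comm]
      exact add_mem hs hs'

theorem mem_range_phiLin {f : A} {M : Type u} [AddCommGroup M] [Module A M] (hbt : BT f M) (z : ℕ → M)
    (hz : ∀ k, ∃ v : M, f ^ k • v = partialSum f M k z) : z ∈ LinearMap.range (phiLin f M) := by
  obtain ⟨N, hN⟩ := hbt
  choose v hv using fun n => hz (n + N + 1)
  have hps : ∀ n, partialSum f M (n + 1) z = partialSum f M n z + f ^ n • z n := fun n => by
    simp only [partialSum, LinearMap.coe_sum, Finset.sum_apply, LinearMap.smul_apply, LinearMap.proj_apply]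
    exact Finset.sum_range_succ _ n
  -- the tails of the partial sums
  let R : ℕ → M := fun n => ∑ i ∈ Finset.range N, f ^ i • z (n + 1 + i)
  let w : ℕ → M := fun n => R n - f ^ N • v n
  have hR : ∀ n, partialSum f M (n + 1) z + f ^ (n + 1) • R n = partialSum f M (n + N + 1) z := fun n => by
    simp only [partialSum, LinearMap.coe_sum, Finset.sum_apply, LinearMap.smul_apply, LinearMap.proj_apply, R,
      Finset.smul_sum, smul_smul, ← pow_add]
    rw [show n + N + 1 = (n + 1) + N by omega, Finset.sum_range_add _ (n + 1) N]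
  have hw : ∀ n, partialSum f M (n + 1) z = -(f ^ (n + 1) • w n) := fun n => by
    show _ = -(f ^ (n + 1) • (R n - f ^ N • v n))
    rw [smul_sub, smul_smul, ← pow_add, show n + 1 + N = n + N + 1 by omega, hv n, neg_sub, ← hR n]
    abel
  refine ⟨w, funext fun k => ?_⟩
  cases k with
  | zero =>
    show -(f • w 0) = z 0
    have := hw 0
    rw [pow_one] at this
    rw [← this, hps 0]
    simp [partialSum]
  | succ n =>
    show w n - f • w (n + 1) = z (n + 1)
    have hRn : R n - f • R (n + 1) = z (n + 1) - f ^ N • z (n + N + 1) := by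
      have h1 := Finset.sum_range_succ (fun i => f ^ i • z (n + 1 + i)) N
      have h2 := Finset.sum_range_succ' (fun i => f ^ i • z (n + 1 + i)) N
      have h3 : (∑ i ∈ Finset.range N, f ^ (i + 1) • z (n + 1 + (i + 1))) = f • R (n + 1) := by
        simp only [R, Finset.smul_sum, smul_smul, ← pow_succ']
        exact Finset.sum_congr rfl fun i _ => by rw [show n + 1 + (i + 1) = n + 1 + 1 + i by omega]
      rw [h3, pow_zero, one_smul, Nat.add_zero] at h2
      rw [show n + N + 1 = n + 1 + N by omega]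
      have := h1.symm.trans h2
      rw [sub_eq_sub_iff_add_eq_add]
      rw [add_comm (z (n + 1))]
      exact this
    let u := z (n + N + 1) + v n - f • v (n + 1)
    have hu : f ^ (n + N + 1) • u = 0 := by
      show f ^ (n + N + 1) • (z (n + N + 1) + v n - f • v (n + 1)) = 0
      rw [smul_sub, smul_add, smul_smul, ← pow_succ, hv n, show n + N + 1 + 1 = n + 1 + N + 1 by omega, hv (n + 1),
        show n + 1 + N + 1 = n + N + 1 + 1 by omega, hps (n + N + 1)]
      abel
    have e : w n - f • w (n + 1) = z (n + 1) - f ^ N • u := by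
      show R n - f ^ N • v n - f • (R (n + 1) - f ^ N • v (n + 1)) = _
      rw [smul_sub, show f • f ^ N • v (n + 1) = f ^ N • f • v (n + 1) from smul_comm _ _ _,
        show R n - f ^ N • v n - (f • R (n + 1) - f ^ N • f • v (n + 1)) =
          (R n - f • R (n + 1)) - f ^ N • v n + f ^ N • f • v (n + 1) by abel, hRn]
      show _ = z (n + 1) - f ^ N • (z (n + N + 1) + v n - f • v (n + 1))
      rw [smul_sub, smul_add]
      abel
    rw [e, hN u (n + N + 1) hu, sub_zero]

theorem isHausdorff_step (hT : ARGood (A := A) T) (hι : Reduc J ι) [IsAdicComplete J H] (f : A)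
    {H' : Type u} [AddCommGroup H'] [Module A H'] (q : (ℕ → H) →ₗ[A] H') (hq : Surjective q)
    (hker : LinearMap.ker q = LinearMap.range (phiLin f H)) : IsHausdorff (Ideal.span {f} ⊔ J) H' := by
  refine ⟨fun y hy => ?_⟩
  obtain ⟨z, rfl⟩ := hq y
  refine LinearMap.mem_ker.1 (hker ▸ mem_range_phiLin (bt_completion hT hι (reduc_happ hι) f) z fun k => ?_)
  refine closed_completion hT hι (reduc_happ hι) (f ^ k) _ fun n => ?_
  have hz := SModEq.zero.1 (hy (k + n))
  rw [← LinearMap.range_eq_top.2 hq, ← Submodule.map_top, ← Submodule.map_smul''] at hz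
  obtain ⟨v, hv, hvz⟩ := hz
  have hmem : z - v ∈ LinearMap.range (phiLin f H) := by
    rw [← hker, LinearMap.mem_ker, map_sub, hvz, sub_self]
  obtain ⟨w, hw⟩ := hmem
  have h1 : ∃ a : H, f ^ k • a = partialSum f H k (z - v) := by
    cases k with
    | zero => exact ⟨0, by simp [partialSum]⟩
    | succ k => exact ⟨-(w k), by rw [← hw, partialSum_phiLin, smul_neg]⟩
  obtain ⟨a, ha⟩ := h1
  have hv' : partialSum f H k v ∈ (Ideal.span {f} ⊔ J) ^ (k + n) • (⊤ : Submodule A H) := by
    have := Submodule.mem_map_of_mem (f := partialSum f H k) hv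
    rw [Submodule.map_smul''] at this
    exact Submodule.smul_mono le_rfl le_top this
  have hle : (Ideal.span {f} ⊔ J) ^ (k + n) ≤ Ideal.span {f ^ k} ⊔ J ^ n := by
    rw [← Ideal.span_singleton_pow]
    exact Ideal.sup_pow_add_le_pow_sup_pow
  obtain ⟨b, hb, d, hd, hbd⟩ := Submodule.mem_sup.1 ((Submodule.sup_smul _ _ _).le (Submodule.smul_mono_left hle hv'))
  obtain ⟨b', rfl⟩ : ∃ b' : H, b = f ^ k • b' := Submodule.smul_induction_on hb (fun r hr v _ => by
      obtain ⟨c, rfl⟩ := Ideal.mem_span_singleton'.1 hr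
      exact ⟨c • v, by rw [mul_comm, mul_smul]⟩) fun x y ⟨a, ha⟩ ⟨b, hb⟩ => ⟨a + b, by rw [smul_add, ha, hb]⟩
  refine ⟨a + b', ?_⟩
  rw [smul_add, ha, map_sub, show partialSum f H k z - (partialSum f H k z - partialSum f H k v + f ^ k • b') =
    partialSum f H k v - f ^ k • b' by abel, ← hbd, add_sub_cancel_left]
  exact hd

theorem exists_equiv_of_reduc {I : Ideal A} {N : Type u} [AddCommGroup N] [Module A N] {κ : T →ₗ[A] N}
    (h : Reduc I κ) [IsAdicComplete I N] :
    ∃ e : N ≃ₗ[A] AdicCompletion I T, ∀ x, e (κ x) = AdicCompletion.of I T x := by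
  have hb := AdicCompletion.of_bijective_iff.2 (inferInstance : IsAdicComplete I N)
  let μ : AdicCompletion I T →ₗ[A] AdicCompletion I N := (AdicCompletion.map I κ).restrictScalars A
  have hμ : Bijective μ := by
    refine ⟨(injective_iff_map_eq_zero μ).2 fun x hx => ?_,
      AdicCompletion.map_surjective_of_mkQ_comp_surjective fun y => ?_⟩
    · refine Subtype.ext (funext fun n => ?_)
      obtain ⟨m, hm⟩ := Submodule.Quotient.mk_surjective _ (x.val n)
      have h' : (AdicCompletion.map I κ x).val n = 0 := by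
        show (μ x).val n = 0
        rw [hx]; rfl
      rw [AdicCompletion.map_val_apply, ← hm] at h'
      rw [show (0 : AdicCompletion I T).val n = 0 from rfl, ← hm]
      exact (Submodule.Quotient.mk_eq_zero _).2 (h.inj n m ((Submodule.Quotient.mk_eq_zero _).1 h'))
    · obtain ⟨z, rfl⟩ := Submodule.mkQ_surjective _ y
      obtain ⟨x, hx⟩ := h.gen z
      exact ⟨x, ((Submodule.Quotient.eq _).2 hx).symm⟩
  refine ⟨(LinearEquiv.ofBijective (AdicCompletion.of I N) hb).trans (LinearEquiv.ofBijective μ hμ).symm,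
    fun x => ?_⟩
  rw [LinearEquiv.trans_apply, LinearEquiv.symm_apply_eq]
  exact (AdicCompletion.map_of I κ x).symm

end Groth.Agent.RHomComplLib
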