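import Groth.Agent.DRingLib.DualPerfect
import Groth.Agent.DComplLib.SeqHom

/-!
# Hom complexes into sequences and mapping cones
-/

set_option autoImplicit false
set_option linter.style.haveILetI false
set_option backward.isDefEq.respectTransparency false

universe u

open CategoryTheory Limits Pretriangulated CochainComplex CochainComplex.HomComplex
attribute [local instance] HasDerivedCategory.standard

noncomputable section

namespace Groth.Agent.RHomComplLib

open Groth.Agent.DComplLib

variable {A : Type u} [CommRing A] (K : DRing.Cx A)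

theorem homCxMap_comp {L L' L'' : DRing.Cx A} (a : L ⟶ L') (b : L' ⟶ L'') :
    DRing.homCxMap K (a ≫ b) = DRing.homCxMap K a ≫ DRing.homCxMap K b :=
  (DRing.homCxFunctor K).map_comp a b

theorem homCxMap_id (L : DRing.Cx A) : DRing.homCxMap K (𝟙 L) = 𝟙 _ :=
  (DRing.homCxFunctor K).map_id L

theorem homCxMap_sub {L L' : DRing.Cx A} (a b : L ⟶ L') :
    DRing.homCxMap K (a - b) = DRing.homCxMap K a - DRing.homCxMap K b := by
  refine HomologicalComplex.hom_ext _ _ fun i => ModuleCat.hom_ext (LinearMap.ext fun (z : Cochain K L i) => ?_)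
  show z.comp (Cochain.ofHom (a - b)) (add_zero i) =
    z.comp (Cochain.ofHom a) (add_zero i) - z.comp (Cochain.ofHom b) (add_zero i)
  rw [Cochain.ofHom_sub, Cochain.comp_sub]

theorem homCxMap_smul {L L' : DRing.Cx A} (f : A) (a : L ⟶ L') :
    DRing.homCxMap K (f • a) = f • DRing.homCxMap K a := by
  refine HomologicalComplex.hom_ext _ _ fun i => ModuleCat.hom_ext (LinearMap.ext fun (z : Cochain K L i) => ?_)
  show z.comp (Cochain.ofHom (f • a)) (add_zero i) = f • z.comp (Cochain.ofHom a) (add_zero i)
  refine Cochain.ext _ _ fun p q hpq => ?_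
  simp [Linear.comp_smul]

theorem homCxMap_smul_id (f : A) (L : DRing.Cx A) :
    DRing.homCxMap K (f • 𝟙 L) = f • 𝟙 (DRing.homCx K L) := by
  rw [homCxMap_smul, homCxMap_id]

/-- The canonical map to sequences of Hom complexes. -/
def homSeqMap (J : DRing.Cx A) : DRing.homCx K (seqCx J) ⟶ seqCx (DRing.homCx K J) :=
  seqLift fun k => DRing.homCxMap K (seqProj J k)

theorem isIso_homSeqMap (J : DRing.Cx A) : IsIso (homSeqMap K J) := by
  haveI : ∀ i, IsIso ((homSeqMap K J).f i) := fun i => by
    refine (ConcreteCategory.isIso_iff_bijective _).2 ⟨?_, fun y => ?_⟩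
    · intro (z : Cochain K (seqCx J) i) (z' : Cochain K (seqCx J) i) h
      refine Cochain.ext _ _ fun p q hpq => ?_
      ext x
      funext k
      have e : z.comp (Cochain.ofHom (seqProj J k)) (add_zero i) =
          z'.comp (Cochain.ofHom (seqProj J k)) (add_zero i) := congrFun h k
      have e' := Cochain.congr_v e p q hpq
      simp only [Cochain.comp_zero_cochain_v, Cochain.ofHom_v] at e'
      exact congr($(e').hom x)
    · let y' : ℕ → Cochain K J i := y
      refine ⟨Cochain.mk fun p q hpq => ModuleCat.ofHom (LinearMap.pi fun k => ((y' k).v p q hpq).hom),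
        funext fun k => ?_⟩
      show (Cochain.mk fun p q hpq => ModuleCat.ofHom (LinearMap.pi fun k => ((y' k).v p q hpq).hom) :
        Cochain K (seqCx J) i).comp (Cochain.ofHom (seqProj J k)) (add_zero i) = y' k
      refine Cochain.ext _ _ fun p q hpq => ?_
      rw [Cochain.comp_zero_cochain_v, Cochain.ofHom_v, Cochain.mk_v]
      rfl
  exact HomologicalComplex.Hom.isIso_of_components _

theorem homSeqMap_seqT (f : A) (J : DRing.Cx A) :
    DRing.homCxMap K (seqT f J) ≫ homSeqMap K J = homSeqMap K J ≫ seqT f (DRing.homCx K J) := by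
  have hext : ∀ {L M : DRing.Cx A} (a b : L ⟶ seqCx M), (∀ k, a ≫ seqProj M k = b ≫ seqProj M k) → a = b := by
    intro L M a b h
    ext i x
    funext k
    exact congr($(h k).f i |>.hom x)
  refine hext _ _ fun k => ?_
  rw [Category.assoc, Category.assoc, homSeqMap, seqLift_proj, seqT_proj, Preadditive.comp_sub,
    Linear.comp_smul, seqLift_proj, seqLift_proj, ← homCxMap_comp, seqT_proj, homCxMap_sub, homCxMap_smul]

theorem isKInjective_seqCx (J : DRing.Cx A) [J.IsKInjective] : (seqCx J).IsKInjective :=
  ⟨fun {L} φ hL => ⟨seqHomotopy fun k => (Homotopy.ofEq rfl).trans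
    ((CochainComplex.IsKInjective.homotopyZero (φ ≫ seqProj J k) hL).trans (Homotopy.ofEq zero_comp.symm))⟩⟩

/-- A quasi-isomorphism of K-injective complexes stays one after taking Hom complexes. -/
theorem isIso_Q_homCxMap {I J : DRing.Cx A} [I.IsKInjective] [J.IsKInjective] (a : I ⟶ J)
    [IsIso (DerivedCategory.Q.map a)] : IsIso (DerivedCategory.Q.map (DRing.homCxMap K a)) := by
  obtain ⟨b, hb⟩ := exists_Q_map (K := J) (I := I) (inv (DerivedCategory.Q.map a))
  have key : ∀ {L : DRing.Cx A} [L.IsKInjective] (c : L ⟶ L), DerivedCategory.Q.map c = 𝟙 _ →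
      DerivedCategory.Q.map (DRing.homCxMap K c) = 𝟙 _ := by
    intro L _ c hc
    obtain ⟨H⟩ := homotopic_of_Q_map_eq_zero (a := c - 𝟙 L) (by
      rw [Functor.map_sub, hc, CategoryTheory.Functor.map_id, sub_self])
    rw [DerivedCategory.Q_map_eq_of_homotopy (C := ModuleCat.{u} A)
      (DRingLib.homCxHomotopy K (Homotopy.equivSubZero.symm H)), homCxMap_id, CategoryTheory.Functor.map_id]
  refine ⟨DerivedCategory.Q.map (DRing.homCxMap K b), ?_, ?_⟩
  · rw [← Functor.map_comp, ← homCxMap_comp]
    exact key _ (by rw [Functor.map_comp, hb, IsIso.hom_inv_id])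
  · rw [← Functor.map_comp, ← homCxMap_comp]
    exact key _ (by rw [Functor.map_comp, hb, IsIso.inv_hom_id])

/-- Hom complexes into K-injective complexes preserve completeness. -/
theorem dc_homCx {f : A} (J : DRing.Cx A) [J.IsKInjective] (h : ∀ n, DC f (J.homology n)) (n : ℤ) :
    DC f ((DRing.homCx K J).homology n) := by
  haveI := seqT_quasiIso h
  haveI := isKInjective_seqCx J
  haveI := isIso_Q_homCxMap K (seqT f J)
  haveI := isIso_homSeqMap K J
  have e : DerivedCategory.Q.map (seqT f (DRing.homCx K J)) =
      inv (DerivedCategory.Q.map (homSeqMap K J)) ≫ DerivedCategory.Q.map (DRing.homCxMap K (seqT f J)) ≫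
        DerivedCategory.Q.map (homSeqMap K J) := by
    rw [← Functor.map_comp, homSeqMap_seqT, Functor.map_comp, IsIso.inv_hom_id_assoc]
  haveI : IsIso (DerivedCategory.Q.map (seqT f (DRing.homCx K J))) := e ▸ inferInstance
  haveI : QuasiIso (seqT f (DRing.homCx K J)) := (DerivedCategory.isIso_Q_map_iff_quasiIso (φ := _)).1 inferInstance
  exact dc_of_bijective _ n ((ConcreteCategory.isIso_iff_bijective _).1
    ((quasiIsoAt_iff_isIso_homologyMap _ n).1 inferInstance))

section Cone

variable {I J : DRing.Cx A} (φ : I ⟶ J)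

/-- Composition with the inclusion of the source, as a cochain. -/
def inlCochain : Cochain (DRing.homCx K I) (DRing.homCx K (mappingCone φ)) (-1) :=
  Cochain.mk fun p q hpq => ModuleCat.ofHom
    { toFun := fun (z : Cochain K I p) => (z.comp (mappingCone.inl φ) hpq : Cochain K (mappingCone φ) q)
      map_add' := fun z z' => Cochain.add_comp z z' _ hpq
      map_smul' := fun r z => Cochain.smul_comp r z _ hpq }

theorem δ_inlCochain : δ (-1) 0 (inlCochain K φ) =
    Cochain.ofHom (DRing.homCxMap K φ ≫ DRing.homCxMap K (mappingCone.inr φ)) := by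
  refine Cochain.ext₀ _ _ fun p => ModuleCat.hom_ext (LinearMap.ext fun (z : Cochain K I p) => ?_)
  rw [δ_v (-1) 0 (neg_add_cancel 1) _ p p (add_zero p) (p - 1) (p + 1) (by omega) rfl, Cochain.ofHom_v]
  simp only [Int.negOnePow_zero, one_smul]
  show δ (p - 1) p (z.comp (mappingCone.inl φ) (show p + -1 = p - 1 by omega)) +
      (δ p (p + 1) z).comp (mappingCone.inl φ) (show p + 1 + -1 = p by omega) =
    (z.comp (Cochain.ofHom φ) (add_zero p)).comp (Cochain.ofHom (mappingCone.inr φ)) (add_zero p)
  rw [δ_comp z (mappingCone.inl φ) (show p + -1 = p - 1 by omega) (p + 1) 0 p (by omega) rfl (by omega),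
    mappingCone.δ_inl, Cochain.ofHom_comp,
    Cochain.comp_assoc_of_third_is_zero_cochain]
  simp only [Int.negOnePow_neg, Int.negOnePow_one, Units.neg_smul, one_smul]
  abel

/-- The comparison map from the cone of Hom complexes. -/
def homConeMap : mappingCone (DRing.homCxMap K φ) ⟶ DRing.homCx K (mappingCone φ) :=
  mappingCone.desc (DRing.homCxMap K φ) (inlCochain K φ) (DRing.homCxMap K (mappingCone.inr φ))
    (δ_inlCochain K φ)

theorem isIso_homConeMap : IsIso (homConeMap K φ) := by
  haveI : ∀ i, IsIso ((homConeMap K φ).f i) := fun i => by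
    let P := DRing.homCxMap K φ
    have hl : ∀ u : Cochain K I (i + 1),
        ((homConeMap K φ).f i).hom (((mappingCone.inl P).v (i + 1) i (by omega)).hom u) =
          (u.comp (mappingCone.inl φ) (show i + 1 + -1 = i by omega) : Cochain K (mappingCone φ) i) := fun u =>
      congr($(mappingCone.inl_v_desc_f P (inlCochain K φ) (DRing.homCxMap K (mappingCone.inr φ))
        (δ_inlCochain K φ) (i + 1) i (by omega)).hom u)
    have hr : ∀ v : Cochain K J i,
        ((homConeMap K φ).f i).hom (((mappingCone.inr P).f i).hom v) =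
          (v.comp (Cochain.ofHom (mappingCone.inr φ)) (add_zero i) : Cochain K (mappingCone φ) i) := fun v =>
      congr($(mappingCone.inr_f_desc_f P (inlCochain K φ) (DRing.homCxMap K (mappingCone.inr φ))
        (δ_inlCochain K φ) i).hom v)
    refine (ConcreteCategory.isIso_iff_bijective _).2 ⟨?_, ?_⟩
    · refine (injective_iff_map_eq_zero ((homConeMap K φ).f i).hom).2 fun c hc => ?_
      have hs : ((mappingCone.inl P).v (i + 1) i (by omega)).hom
          (((mappingCone.fst P).1.v i (i + 1) rfl).hom c) +
          ((mappingCone.inr P).f i).hom (((mappingCone.snd P).v i i (add_zero i)).hom c) = c :=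
        congr($(mappingCone.id_X P i (i + 1) rfl).hom c)
      generalize ((mappingCone.fst P).1.v i (i + 1) rfl).hom c = u at hs
      generalize ((mappingCone.snd P).v i i (add_zero i)).hom c = v at hs
      subst hs
      rw [map_add, hl, hr] at hc
      change Cochain K I (i + 1) at u
      change Cochain K J i at v
      replace hc : (u.comp (mappingCone.inl φ) (show i + 1 + -1 = i by omega) +
        v.comp (Cochain.ofHom (mappingCone.inr φ)) (add_zero i) : Cochain K (mappingCone φ) i) = 0 := hc
      have hu : u = 0 := by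
        refine Cochain.ext _ _ fun p q hpq => ?_
        have e := congrArg (fun z : Cochain K (mappingCone φ) i =>
          z.v p (q - 1) (by omega) ≫ (mappingCone.fst φ).1.v (q - 1) q (by omega)) hc
        simpa [Cochain.add_v, Cochain.comp_v u (mappingCone.inl φ) (show i + 1 + -1 = i by omega) p q (q - 1) hpq (by omega)]
          using e
      have hv : v = 0 := by
        refine Cochain.ext _ _ fun p q hpq => ?_
        have e := congrArg (fun z : Cochain K (mappingCone φ) i =>
          z.v p q hpq ≫ (mappingCone.snd φ).v q q (add_zero q)) hc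
        simpa [Cochain.add_v, Cochain.comp_v u (mappingCone.inl φ) (show i + 1 + -1 = i by omega) p (q + 1) q (by omega) (by omega)]
          using e
      rw [hu, hv]
      exact (congrArg₂ (· + ·) (map_zero _) (map_zero _)).trans (add_zero 0)
    · intro (w : Cochain K (mappingCone φ) i)
      refine ⟨((mappingCone.inl P).v (i + 1) i (by omega)).hom
          (w.comp (mappingCone.fst φ).1 rfl : Cochain K I (i + 1)) +
        ((mappingCone.inr P).f i).hom (w.comp (mappingCone.snd φ) (add_zero i) : Cochain K J i), ?_⟩
      rw [map_add, hl, hr]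
      refine Cochain.ext _ _ fun p q hpq => ?_
      rw [Cochain.add_v, Cochain.comp_v _ (mappingCone.inl φ) _ p (q + 1) q (by omega) (by omega),
        Cochain.comp_v w (mappingCone.fst φ).1 rfl p q (q + 1) hpq rfl, Cochain.comp_zero_cochain_v,
        Cochain.comp_zero_cochain_v, Cochain.ofHom_v, Category.assoc, Category.assoc, ← Preadditive.comp_add,
        mappingCone.id_X, Category.comp_id]
  exact HomologicalComplex.Hom.isIso_of_components _

theorem inr_homConeMap :
    mappingCone.inr (DRing.homCxMap K φ) ≫ homConeMap K φ = DRing.homCxMap K (mappingCone.inr φ) :=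
  mappingCone.inr_desc _ _ _ _

end Cone

end Groth.Agent.RHomComplLib
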