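import Groth.Agent.RHomComplLib.Cech
import Groth.Agent.ShriekAlgLib.DualBC
import Groth.Agent.DualCxLib.HDI
import Groth.Agent.DualCxLib.GammaHDI

/-!
# Local duality up to derived completion
-/

set_option autoImplicit false
set_option linter.style.haveILetI false
set_option backward.isDefEq.respectTransparency false
set_option maxRecDepth 4000

universe u

open CategoryTheory Limits Pretriangulated CochainComplex CochainComplex.HomComplex
attribute [local instance] HasDerivedCategory.standard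

noncomputable section

namespace Groth.Agent.RHomComplLib

open Groth.Agent.DComplLib Groth.Agent.DRingLib Groth.Agent.TorsCoreflLib

variable {A : Type u} [CommRing A]

theorem bd_le_of_iso {X Y : Dual.D A} (e : X ≅ Y) : bd X ≤ bd Y :=
  Ideal.radical_mono fun a ha => mem_annHD.2 fun n z => by
    let E := ((DerivedCategory.homologyFunctor (ModuleCat.{u} A) n).mapIso e).toLinearEquiv
    refine E.symm.injective ?_
    rw [map_smul, map_zero]
    exact mem_annHD.1 ha n _

theorem noCompl_of_iso (I : Ideal A) {X Y : Dual.D A} (e : X ≅ Y) (h : NoCompl I X) : NoCompl I Y := fun E hE g => by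
  rw [← cancel_epi e.hom, h E hE (e.hom ≫ g), comp_zero]

theorem noTors_of_iso (I : Ideal A) {X Y : Dual.D A} (e : X ≅ Y) (h : NoTors I X) : NoTors I Y := fun T hT g => by
  rw [← cancel_mono e.inv, h T hT (g ≫ e.inv), zero_comp]

/-- Vanishing of maps gives vanishing of the Hom complex. -/
theorem isZero_Q_homCx (G C : DRing.Cx A) [C.IsKInjective]
    (h : ∀ (n : ℤ) (g : DRing.toD G ⟶ (DRing.toD C)⟦n⟧), g = 0) : IsZero (DRing.toD (DRing.homCx G C)) := by
  refine Groth.Agent.ProDerLib.isZero_of_homology _ fun n => ?_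
  haveI : Subsingleton ((DRing.homCx G C).homology n) := subsingleton_of_forall_eq 0 fun c => by
    obtain ⟨⟨x, hx⟩, rfl⟩ := LocCohLib.cls_surjective (DRing.homCx G C) n c
    rw [LocCohLib.cls_eq_zero_iff, CochainComplex.prev]
    let x' : Cochain G C n := x
    have hx' : δ n (n + 1) x' = 0 := by
      have e : ((DRing.homCx G C).d n ((ComplexShape.up ℤ).next n)).hom x = 0 := hx
      rw [CochainComplex.next] at e
      exact e
    let z : Cocycle G C n := Cocycle.mk x' (n + 1) rfl hx'
    haveI : (C⟦n⟧).IsKInjective := inferInstance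
    have h0 : CohomologyClass.toHom (CohomologyClass.mk z) = 0 := by
      rw [CohomologyClass.toHom_mk]
      refine (HomotopyCategory.quotient_map_eq_zero_iff _).2 (homotopic_of_Q_map_eq_zero ?_)
      rw [← cancel_mono ((DerivedCategory.Q.commShiftIso n).hom.app C), zero_comp]
      exact h n _
    obtain ⟨m, hm, β, hβ⟩ := (CohomologyClass.toHom_mk_eq_zero_iff z).1 h0
    obtain rfl : m = n - 1 := by omega
    exact ⟨β, hβ⟩
  exact (ModuleCat.isZero_of_subsingleton ((DRing.homCx G C).homology n)).of_iso (hQIso (DRing.homCx G C) n)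

variable [IsNoetherianRing A] (I : Ideal A)

theorem noCompl_homCx {X : DRing.Cx A} (hX : NoTors I (DRing.toD X)) (J : DRing.Cx A) [J.IsKInjective] :
    NoCompl I (DRing.toD (DRing.homCx X J)) := by
  suffices H : ∀ (l : List A), (∀ x ∈ l, x ∈ I) → ∀ (J : DRing.Cx A) [J.IsKInjective],
      I ≤ bd (DRing.toD J) ⊔ Ideal.ofList l → NoCompl I (DRing.toD (DRing.homCx X J)) by
    obtain ⟨l, hl⟩ := Groth.Agent.DualCxLib.ofList_toList_fg I
    exact H l (fun x hx => hl ▸ Ideal.subset_span hx) J (le_sup_of_le_right hl.ge)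
  intro l
  induction l with
  | nil =>
    intro _ J _ hJ E _ g
    rw [Ideal.ofList_nil, sup_bot_eq] at hJ
    refine (isZero_Q_homCx X J fun n g => noCompl_of_noTors I hX _ (fun a ha => ?_) g).eq_of_src g 0
    exact mem_dcIdealD_shift (bd_le_dcIdealD _ (hJ ha)) n
  | cons f l ih =>
    intro hl J _ hJ
    let φ := f • 𝟙 J
    haveI := isKInjective_cone φ
    let P := DRing.homCxMap X φ
    have hT := DerivedCategory.mappingCone_triangle_distinguished φ
    have hbd : bd (DRing.toD J) ≤ bd (DRing.toD (mappingCone φ)) ∧ f ∈ bd (DRing.toD (mappingCone φ)) := by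
      obtain ⟨C, π, δ', hT', hb, hf⟩ := TorsCoreflLib.exists_cone f (DRing.toD J)
      have e := Triangle.π₃.mapIso (isoTriangleOfIso₁₂ _ _ hT' hT (Iso.refl _) (Iso.refl _) (by
        show (f • 𝟙 (DRing.toD J)) ≫ 𝟙 _ = 𝟙 _ ≫ DerivedCategory.Q.map φ
        rw [Category.comp_id, Category.id_comp, Functor.map_smul, CategoryTheory.Functor.map_id]))
      exact ⟨hb.trans (bd_le_of_iso e), bd_le_of_iso e hf⟩
    haveI := isIso_homConeMap X φ
    have hC : NoCompl I (DRing.toD (mappingCone P)) := noCompl_of_iso I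
      (asIso (DerivedCategory.Q.map (homConeMap X φ))).symm
      (ih (fun x hx => hl x (List.mem_cons_of_mem f hx)) (mappingCone φ) (hJ.trans (by
        rw [Ideal.ofList_cons]
        exact sup_le (hbd.1.trans le_sup_left)
          (sup_le (((Ideal.span_singleton_le_iff_mem _).2 hbd.2).trans le_sup_left) le_sup_right))))
    intro E hE g
    have hP : DerivedCategory.Q.map P = f • 𝟙 (DRing.toD (DRing.homCx X J)) := by
      show DerivedCategory.Q.map (DRing.homCxMap X (f • 𝟙 J)) = _
      rw [homCxMap_smul_id, Functor.map_smul, CategoryTheory.Functor.map_id]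
    have hTP := DerivedCategory.mappingCone_triangle_distinguished P
    have hdiv : ∀ k : DRing.toD (DRing.homCx X J) ⟶ E, ∃ k', k = f • k' := fun k => by
      obtain ⟨m, hm⟩ := Triangle.yoneda_exact₂ _ (inv_rot_of_distTriang _ hTP) k
        (NoCompl.shift I hC (-1) E hE _)
      refine ⟨m, hm.trans ?_⟩
      show DerivedCategory.Q.map P ≫ m = f • m
      exact (congrArg (· ≫ m) hP).trans
        ((Linear.smul_comp _ _ _ f (𝟙 _) m).trans (congrArg (f • ·) (Category.id_comp m)))
    choose d hd using hdiv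
    exact (dc_hom _ E (mem_dcIdealD.1 (hE (hl f List.mem_cons_self)))).eq_zero
      (x := fun k => Nat.rec g (fun _ p => d p) k) (fun k => hd _) 0

/-- Precomposition with a torsion coreflection is a completion after applying the Hom complex. -/
theorem exists_isCompl_homCx [DRing.HasRgammaI I] (K : DRing.Cx A) (J : DRing.Cx A) [J.IsKInjective]
    (G : DRing.Cx A) (eG : DRing.toD G ≅ (DRing.RgammaI I).obj (DRing.toD K)) :
    ∃ η : DRing.toD (DRing.homCx K J) ⟶ DRing.toD (DRing.homCx G J), IsCompl (I : Set A) η := by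
  let R := (DRing.RgammaI I).obj (DRing.toD K)
  let ε : R ⟶ DRing.toD K := (DRing.RgammaIε I).app (DRing.toD K)
  obtain ⟨D, π, δ', hT⟩ := distinguished_cocone_triangle ε
  have hD : NoTors I D := coyoneda₃_zero I hT fun T hTT => comp_ε_bijective I T (DRing.toD K) hTT
  obtain ⟨L, hL, ⟨eL⟩⟩ := exists_kInjective D
  haveI := hL
  obtain ⟨φ, hφ⟩ := exists_Q_map (K := K) (π ≫ eL.inv)
  have hS : (coconeSC φ).ShortExact := HomologicalComplex.shortExact_of_degreewise_shortExact _ fun q =>
    (coconeSplitting φ q).shortExact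
  have hc : DerivedCategory.Q.mapTriangle.obj (mappingCocone.triangle φ) ∈ distTriang _ :=
    isomorphic_distinguished _ (DerivedCategory.Qh.map_distinguished _ (ExtCechLib.cocone_distinguished φ)) _
      ((Functor.mapTriangleIso (DerivedCategory.quotientCompQhIso (ModuleCat.{u} A))).symm.app _ ≪≫
        (Functor.mapTriangleCompIso (HomotopyCategory.quotient (ModuleCat.{u} A) (ComplexShape.up ℤ))
          DerivedCategory.Qh).app _)
  let e1 := isoTriangleOfIso₁₂ _ _ (rot_of_distTriang _ hc) (rot_of_distTriang _ hT) (Iso.refl _) eL (by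
    show DerivedCategory.Q.map φ ≫ eL.hom = 𝟙 _ ≫ π
    rw [hφ, Category.assoc, Iso.inv_hom_id, Category.comp_id, Category.id_comp])
  let eR : DRing.toD (mappingCocone φ) ≅ R :=
    (CategoryTheory.shiftFunctor (Dual.D A) (1 : ℤ)).preimageIso (Triangle.π₃.mapIso e1)
  have hPT : PT I (DRing.toD (mappingCocone φ)) := fun i =>
    TorsCoreflLib.isPowerTorsion_equiv I ((DerivedCategory.homologyFunctor _ i).mapIso eR).toLinearEquiv
      (torsion_RgammaI I _ i)
  let X₁ := (coconeSC φ).X₁
  have hX₁ : NoTors I (DRing.toD X₁) := by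
    have hs := DerivedCategory.triangleOfSES_distinguished hS
    obtain ⟨e, -⟩ : ∃ e : DRing.toD L ≅ (DRing.toD X₁)⟦(1 : ℤ)⟧, True :=
      ⟨Triangle.π₃.mapIso (isoTriangleOfIso₁₂ _ _ hc (rot_of_distTriang _ hs) (Iso.refl _) (Iso.refl _) (by
        show DerivedCategory.Q.map (mappingCocone.fst φ) ≫ 𝟙 _ = 𝟙 _ ≫ DerivedCategory.Q.map (mappingCocone.fst φ)
        rw [Category.comp_id, Category.id_comp])), trivial⟩
    exact noTors_of_iso I ((shiftShiftNeg (DRing.toD X₁) (1 : ℤ)))
      (NoTors.shift I (noTors_of_iso I (eL.symm ≪≫ e) hD) (-1))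
  have hSE : (homShortComplex J (coconeSC φ)).ShortExact :=
    HomologicalComplex.shortExact_of_degreewise_shortExact _ fun n =>
      (homSplitting J (coconeSC φ) (coconeSplitting φ) n).shortExact
  obtain ⟨eC⟩ := ShriekAlgLib.nonempty_homCx_congr J (eR ≪≫ eG.symm)
  refine ⟨DerivedCategory.Q.map (homCxPre (mappingCocone.fst φ) J) ≫ eC.hom,
    IsCompl.of_iso_target ⟨fun a ha => mem_dcIdealD.2 fun n => ?_, fun E hE => ?_⟩ eC⟩
  · refine (dc_HD_iff (DRing.homCx (mappingCocone φ) J) n a).2 (dc_homCx_of_torsion a _ J (fun m c => ?_) n)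
    obtain ⟨N, hN⟩ := hPT m ((hQIso (mappingCocone φ) m).toLinearEquiv.symm c)
    refine ⟨N, (hQIso (mappingCocone φ) m).toLinearEquiv.symm.injective ?_⟩
    rw [map_smul, map_zero]
    exact hN _ (Ideal.pow_mem_pow ha N)
  · exact precomp_bijective I (DerivedCategory.triangleOfSES_distinguished hSE) (noCompl_homCx I hX₁ J) hE

section Local

variable {A : Type u} [CommRing A] [IsLocalRing A] [IsNoetherianRing A] {ω : Dual.D A}

open IsLocalRing

theorem nonempty_RgammaI_dualizing [DRing.HasRgammaI (maximalIdeal A)] (hω : Dual.IsDualizing A ω)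
    (hn : Dual.IsNormalized A ω) {E : Type u} [AddCommGroup E] [Module A E]
    {f : ResidueField A →ₗ[A] E} (hf : InjHull.IsInjectiveHull f) :
    Nonempty ((DRing.RgammaI (maximalIdeal A)).obj ω ≅ Dual.inD A E) := by
  let R := (DRing.RgammaI (maximalIdeal A)).obj ω
  have hz : ∀ i : ℤ, i ≠ 0 → IsZero ((DerivedCategory.homologyFunctor (ModuleCat.{u} A) i).obj R) := fun i hi => by
    obtain ⟨e⟩ := DualCxLib.nonempty_HD_RgammaI (maximalIdeal A) ω i
    haveI := DualCxLib.subsingleton_HDI hω hn hi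
    haveI : Subsingleton ((DerivedCategory.homologyFunctor (ModuleCat.{u} A) i).obj R) :=
      e.injective.subsingleton
    exact ModuleCat.isZero_of_subsingleton _
  haveI : R.IsGE 0 := (DerivedCategory.isGE_iff _ _).2 fun i hi => hz i (by omega)
  haveI : R.IsLE 0 := (DerivedCategory.isLE_iff _ _).2 fun i hi => hz i (by omega)
  obtain ⟨Y, ⟨e⟩⟩ := DerivedCategory.exists_iso_singleFunctor_obj_of_isGE_of_isLE R 0
  obtain ⟨e1⟩ := DualCxLib.nonempty_HD_RgammaI (maximalIdeal A) ω 0
  obtain ⟨e2⟩ := DualCxLib.nonempty_HDI_equiv hω hn hf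
  let eY : Y ≅ ModuleCat.of A E :=
    ((DerivedCategory.singleFunctorCompHomologyFunctorIso (ModuleCat.{u} A) 0).app Y).symm ≪≫
      (DerivedCategory.homologyFunctor (ModuleCat.{u} A) 0).mapIso e.symm ≪≫
      (e1.trans e2).toModuleIso
  exact ⟨e ≪≫ (DerivedCategory.singleFunctor (ModuleCat.{u} A) 0).mapIso eY⟩

theorem nonempty_RHomCx_gamma (G : DRing.Cx A) (hG : PT (maximalIdeal A) (DRing.toD G)) [DRing.HasRHomCx G]
    [DRing.HasRgammaI (maximalIdeal A)] (hω : Dual.IsDualizing A ω)
    (hn : Dual.IsNormalized A ω) {E : Type u} [AddCommGroup E] [Module A E]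
    {f : ResidueField A →ₗ[A] E} (hf : InjHull.IsInjectiveHull f) (J : DRing.Cx A) [J.IsKInjective]
    (eJ : DRing.toD J ≅ ω) :
    Nonempty (DRing.toD (DRing.homCx G J) ≅ (DRing.RHomCx G).obj (Dual.inD A E)) := by
  obtain ⟨eE⟩ := nonempty_RgammaI_dualizing hω hn hf
  let ε := (DRing.RgammaIε (maximalIdeal A)).app ω
  obtain ⟨L, hL, ⟨eL⟩⟩ := exists_kInjective (Dual.inD A E)
  haveI := hL
  obtain ⟨ψ, hψ⟩ := exists_Q_map (K := L) ((eL ≪≫ eE.symm).hom ≫ ε ≫ eJ.inv)
  haveI := isKInjective_cone ψ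
  have hC : NoTors (maximalIdeal A) (DRing.toD (mappingCone ψ)) :=
    coyoneda₃_zero (maximalIdeal A) (DerivedCategory.mappingCone_triangle_distinguished ψ) fun T hT => by
      have e : (fun g : T ⟶ DRing.toD L => g ≫ DerivedCategory.Q.map ψ) =
          eJ.symm.homToEquiv ∘ (fun g => g ≫ ε) ∘ (eL ≪≫ eE.symm).homToEquiv := by
        funext g
        show g ≫ DerivedCategory.Q.map ψ = ((g ≫ (eL ≪≫ eE.symm).hom) ≫ ε) ≫ eJ.inv
        rw [hψ, Category.assoc, Category.assoc]
      exact e ▸ (Equiv.bijective _).comp ((comp_ε_bijective (maximalIdeal A) T ω hT).comp (Equiv.bijective _))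
  haveI := isIso_homConeMap G ψ
  have hz : IsZero (DRing.toD (mappingCone (DRing.homCxMap G ψ))) :=
    (isZero_Q_homCx G (mappingCone ψ) fun n g => NoTors.shift _ hC n _ hG g).of_iso
      (asIso (DerivedCategory.Q.map (homConeMap G ψ)))
  haveI : IsIso (DerivedCategory.Q.map (DRing.homCxMap G ψ)) :=
    (Triangle.isZero₃_iff_isIso₁ _ (DerivedCategory.mappingCone_triangle_distinguished _)).1 hz
  haveI := isIso_unit G L
  exact ⟨(asIso (DerivedCategory.Q.map (DRing.homCxMap G ψ))).symm ≪≫ asIso ((unit G).app L) ≪≫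
    (DRing.RHomCx G).mapIso eL⟩

theorem local_duality [DRing.HasRgammaI (maximalIdeal A)] [DRing.HasDerivedCompletion (maximalIdeal A)]
    (hω : Dual.IsDualizing A ω) (hn : Dual.IsNormalized A ω) {E : Type u} [AddCommGroup E] [Module A E]
    {f : ResidueField A →ₗ[A] E} (hf : InjHull.IsInjectiveHull f) (K : DRing.Cx A) [DRing.HasRHomCx K]
    (G : DRing.Cx A) [DRing.HasRHomCx G] (eG : DRing.toD G ≅ (DRing.RgammaI (maximalIdeal A)).obj (DRing.toD K)) :
    Nonempty (((DRing.derivedCompletion (maximalIdeal A)).obj ((DRing.RHomCx K).obj ω)).obj ≅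
      (DRing.RHomCx G).obj (Dual.inD A E)) := by
  obtain ⟨J, hJ, ⟨eJ⟩⟩ := exists_kInjective ω
  haveI := hJ
  obtain ⟨η, hη⟩ := exists_isCompl_homCx (maximalIdeal A) K J G eG
  haveI := isIso_unit K J
  let eK : DRing.toD (DRing.homCx K J) ≅ (DRing.RHomCx K).obj ω :=
    asIso ((unit K).app J) ≪≫ (DRing.RHomCx K).mapIso eJ
  obtain ⟨e, -⟩ := (isCompl_toDerivedCompletion (I := maximalIdeal A) ((DRing.RHomCx K).obj ω)).exists_iso
    (hη.of_iso eK.symm)
  obtain ⟨e'⟩ := nonempty_RHomCx_gamma G (fun i => TorsCoreflLib.isPowerTorsion_equiv _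
    ((DerivedCategory.homologyFunctor _ i).mapIso eG).toLinearEquiv (torsion_RgammaI _ _ i)) hω hn hf J eJ
  exact ⟨e ≪≫ e'⟩

end Local

end Groth.Agent.RHomComplLib
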