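import Groth.Agent.RHomComplLib.HomCx
import Groth.Agent.DRingLib.HomKFlat

/-!
# Hom complexes out of complexes with torsion cohomology are complete
-/

set_option autoImplicit false
set_option linter.style.haveILetI false
set_option backward.isDefEq.respectTransparency false

universe u

open CategoryTheory Limits Pretriangulated CochainComplex CochainComplex.HomComplex
attribute [local instance] HasDerivedCategory.standard

noncomputable section

namespace Groth.Agent.RHomComplLib

open Groth.Agent.DComplLib Groth.Agent.DRingLib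

variable {A : Type u} [CommRing A] (f : A) (C : DRing.Cx A)

/-- The direct sum of countably many copies of a complex. -/
def sumCx : DRing.Cx A where
  X i := ModuleCat.of A (ℕ →₀ C.X i)
  d i j := ModuleCat.ofHom (Finsupp.mapRange.linearMap (C.d i j).hom)
  shape i j h := by
    ext1
    refine Finsupp.lhom_ext fun k x => ?_
    simp [C.shape i j h]
  d_comp_d' i j l _ _ := by
    ext1
    refine Finsupp.lhom_ext fun k x => ?_
    have e : (C.d j l).hom ((C.d i j).hom x) = 0 := congr($(C.d_comp_d i j l).hom x)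
    simp [e]

/-- The `k`-th inclusion. -/
def sumι (k : ℕ) : C ⟶ sumCx C where
  f i := ModuleCat.ofHom (Finsupp.lsingle k)
  comm' i j _ := by
    ext x : 2
    simp [sumCx]

theorem sum_ext {T : DRing.Cx A} {a b : sumCx C ⟶ T} (h : ∀ k, sumι C k ≫ a = sumι C k ≫ b) : a = b := by
  refine HomologicalComplex.hom_ext _ _ fun i => ModuleCat.hom_ext (Finsupp.lhom_ext fun k x => ?_)
  exact congr($(h k).f i |>.hom x)

/-- The map moving the `k`-th term to the next place. -/
def sumShift : sumCx C ⟶ sumCx C where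
  f i := ModuleCat.ofHom (Finsupp.lmapDomain (C.X i) A Nat.succ)
  comm' i j _ := by
    ext1
    refine Finsupp.lhom_ext fun k x => ?_
    simp [sumCx]

/-- `eₖ ↦ eₖ - f eₖ₊₁`. -/
def sumT : sumCx C ⟶ sumCx C := 𝟙 _ - f • sumShift C

theorem sumι_sumT (k : ℕ) : sumι C k ≫ sumT f C = sumι C k - f • sumι C (k + 1) := by
  rw [sumT, Preadditive.comp_sub, Category.comp_id, Linear.comp_smul]
  congr 2
  ext i x : 3
  simp [sumι, sumShift, sumCx]

/-- Sequences of Hom complexes are Hom complexes out of the sum. -/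
def sumHomMap (I : DRing.Cx A) : DRing.homCx (sumCx C) I ⟶ seqCx (DRing.homCx C I) :=
  seqLift fun k => homCxPre (sumι C k) I

theorem isIso_sumHomMap (I : DRing.Cx A) : IsIso (sumHomMap C I) := by
  haveI : ∀ i, IsIso ((sumHomMap C I).f i) := fun i => by
    refine (ConcreteCategory.isIso_iff_bijective _).2 ⟨?_, fun y => ?_⟩
    · intro (z : Cochain (sumCx C) I i) (z' : Cochain (sumCx C) I i) h
      refine Cochain.ext _ _ fun p q hpq => ModuleCat.hom_ext (Finsupp.lhom_ext fun k x => ?_)
      have e : (Cochain.ofHom (sumι C k)).comp z (zero_add i) =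
          (Cochain.ofHom (sumι C k)).comp z' (zero_add i) := congrFun h k
      have e' := Cochain.congr_v e p q hpq
      simp only [Cochain.zero_cochain_comp_v, Cochain.ofHom_v] at e'
      exact congr($(e').hom x)
    · let y' : ℕ → Cochain C I i := y
      refine ⟨Cochain.mk fun p q hpq => ModuleCat.ofHom (Finsupp.lsum A fun k => ((y' k).v p q hpq).hom),
        funext fun k => ?_⟩
      show (Cochain.ofHom (sumι C k)).comp (Cochain.mk fun p q hpq =>
        ModuleCat.ofHom (Finsupp.lsum A fun k => ((y' k).v p q hpq).hom) : Cochain (sumCx C) I i) (zero_add i) = y' k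
      refine Cochain.ext _ _ fun p q hpq => ?_
      rw [Cochain.zero_cochain_comp_v, Cochain.ofHom_v, Cochain.mk_v]
      ext x
      exact Finsupp.lsum_single A (fun k => ((y' k).v p q hpq).hom) k x
  exact HomologicalComplex.Hom.isIso_of_components _

theorem homCxPre_sub {P E : DRing.Cx A} (a b : P ⟶ E) (I : DRing.Cx A) :
    homCxPre (a - b) I = homCxPre a I - homCxPre b I :=
  eq_sub_of_add_eq (by rw [← homCxPre_add, sub_add_cancel])

theorem homCxPre_smul {P E : DRing.Cx A} (a : P ⟶ E) (I : DRing.Cx A) :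
    homCxPre (f • a) I = f • homCxPre a I := by
  refine HomologicalComplex.hom_ext _ _ fun i => ModuleCat.hom_ext (LinearMap.ext fun (z : Cochain E I i) => ?_)
  show (Cochain.ofHom (f • a)).comp z (zero_add i) = f • (Cochain.ofHom a).comp z (zero_add i)
  refine Cochain.ext _ _ fun p q hpq => ?_
  simp [Linear.smul_comp]

theorem sumHomMap_seqT (I : DRing.Cx A) :
    homCxPre (sumT f C) I ≫ sumHomMap C I = sumHomMap C I ≫ seqT f (DRing.homCx C I) := by
  have hext : ∀ {L M : DRing.Cx A} (a b : L ⟶ seqCx M), (∀ k, a ≫ seqProj M k = b ≫ seqProj M k) → a = b := by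
    intro L M a b h
    ext i x
    funext k
    exact congr($(h k).f i |>.hom x)
  refine hext _ _ fun k => ?_
  rw [Category.assoc, Category.assoc, sumHomMap, seqLift_proj, seqT_proj, Preadditive.comp_sub,
    Linear.comp_smul, seqLift_proj, seqLift_proj, ← homCxPre_comp, sumι_sumT, homCxPre_sub, homCxPre_smul]

theorem quasiIso_sumT
    (h : ∀ (n : ℤ) (x : C.X n), (C.d n (n + 1)).hom x = 0 → ∃ N w, (C.d (n - 1) n).hom w = f ^ N • x) :
    QuasiIso (sumT f C) := by
  have hd : ∀ (i j : ℤ) (x : ℕ →₀ C.X i) (k : ℕ),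
      (show ℕ →₀ C.X j from ((sumCx C).d i j).hom x) k = (C.d i j).hom (x k) := fun i j x k => rfl
  have h0 : ∀ (i : ℤ) (x : ℕ →₀ C.X i), (show ℕ →₀ C.X i from ((sumT f C).f i).hom x) 0 = x 0 := fun i x => by
    simp only [sumT, HomologicalComplex.sub_f_apply, HomologicalComplex.id_f, HomologicalComplex.smul_f_apply]
    show x 0 - f • Finsupp.mapDomain Nat.succ x 0 = x 0
    rw [Finsupp.mapDomain_notin_range _ _ (by simp), smul_zero, sub_zero]
  have hs : ∀ (i : ℤ) (x : ℕ →₀ C.X i) (k : ℕ),
      (show ℕ →₀ C.X i from ((sumT f C).f i).hom x) (k + 1) = x (k + 1) - f • x k := fun i x k => by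
    simp only [sumT, HomologicalComplex.sub_f_apply, HomologicalComplex.id_f, HomologicalComplex.smul_f_apply]
    show x (k + 1) - f • Finsupp.mapDomain Nat.succ x (k + 1) = _
    rw [Finsupp.mapDomain_apply Nat.succ_injective]
  refine quasiIso_of_elements _ (fun n (x : ℕ →₀ C.X n) hx hw => ?_) (fun n (y : ℕ →₀ C.X n) hy => ?_)
  · classical
    obtain ⟨w, hw⟩ := hw
    let w' : ℕ →₀ C.X (n - 1) := w
    replace hw : (show ℕ →₀ C.X n from ((sumCx C).d (n - 1) n).hom w') =
      (show ℕ →₀ C.X n from ((sumT f C).f n).hom x) := hw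
    have hk : ∀ k, ∃ v, (C.d (n - 1) n).hom v = x k := fun k => by
      induction k with
      | zero => exact ⟨w' 0, (hd _ _ w' 0).symm.trans ((DFunLike.congr_fun hw 0).trans (h0 n x))⟩
      | succ k ih =>
        obtain ⟨v, hv⟩ := ih
        refine ⟨w' (k + 1) + f • v, ?_⟩
        rw [map_add, map_smul, hv]
        exact sub_eq_iff_eq_add.1
          (((DFunLike.congr_fun hw (k + 1)).trans (hs n x k)).symm.trans (hd _ _ w' (k + 1)))|>.symm
    choose v hv using hk
    refine ⟨∑ k ∈ x.support, Finsupp.single k (v k), ?_⟩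
    show Finsupp.mapRange.linearMap (C.d (n - 1) n).hom _ = x
    simp only [map_sum, Finsupp.mapRange.linearMap_apply, Finsupp.mapRange_single, hv]
    exact x.sum_single
  · classical
    let S : Submodule A (ℕ →₀ C.X n) :=
      (LinearMap.ker ((sumCx C).d n (n + 1)).hom).map ((sumT f C).f n).hom ⊔
        LinearMap.range ((sumCx C).d (n - 1) n).hom
    have key : ∀ (N k : ℕ) (c : C.X n), (C.d n (n + 1)).hom c = 0 →
        (∃ w, (C.d (n - 1) n).hom w = f ^ N • c) → Finsupp.single k c ∈ S := by
      intro N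
      induction N with
      | zero =>
        intro k c _ ⟨w, hw⟩
        refine Submodule.mem_sup_right ⟨Finsupp.single k w, ?_⟩
        show Finsupp.mapRange.linearMap (C.d (n - 1) n).hom (Finsupp.single k w) = Finsupp.single k c
        rw [Finsupp.mapRange.linearMap_apply, Finsupp.mapRange_single, hw, pow_zero, one_smul]
      | succ N ih =>
        intro k c hc ⟨w, hw⟩
        have h1 : Finsupp.single (k + 1) (f • c) ∈ S :=
          ih (k + 1) _ (by rw [map_smul, hc, smul_zero]) ⟨w, by rw [hw, pow_succ, mul_smul]⟩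
        have h2 : ((sumT f C).f n).hom (Finsupp.single k c) ∈ S :=
          Submodule.mem_sup_left ⟨Finsupp.single k c, by
            show Finsupp.mapRange.linearMap (C.d n (n + 1)).hom (Finsupp.single k c) = 0
            rw [Finsupp.mapRange.linearMap_apply, Finsupp.mapRange_single, hc, Finsupp.single_zero], rfl⟩
        have e : Finsupp.single k c =
            (show ℕ →₀ C.X n from ((sumT f C).f n).hom (Finsupp.single k c)) + Finsupp.single (k + 1) (f • c) := by
          simp only [sumT, HomologicalComplex.sub_f_apply, HomologicalComplex.id_f, HomologicalComplex.smul_f_apply]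
          show _ = (Finsupp.single k c - f • Finsupp.mapDomain Nat.succ (Finsupp.single k c)) + _
          rw [Finsupp.mapDomain_single, Finsupp.smul_single]
          abel
        rw [e]
        exact S.add_mem h2 h1
    have hyS : y ∈ S := by
      rw [← y.sum_single]
      refine Submodule.sum_mem _ fun k _ => ?_
      have hc : (C.d n (n + 1)).hom (y k) = 0 := (hd _ _ y k).symm.trans (DFunLike.congr_fun
        (show (show ℕ →₀ C.X (n + 1) from ((sumCx C).d n (n + 1)).hom y) = 0 from hy) k)
      obtain ⟨N, w, hw⟩ := h n (y k) hc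
      exact key N k (y k) hc ⟨w, hw⟩
    obtain ⟨a, ha, b, ⟨w, rfl⟩, hab⟩ := Submodule.mem_sup.1 hyS
    obtain ⟨x, hx, rfl⟩ := ha
    refine ⟨x, -w, hx, ?_⟩
    rw [map_neg, ← sub_eq_add_neg]
    exact eq_sub_of_add_eq hab

theorem dc_homCx_of_torsion (I : DRing.Cx A) [I.IsKInjective]
    (h : ∀ (n : ℤ) (c : C.homology n), ∃ N : ℕ, f ^ N • c = 0) (n : ℤ) :
    DC f ((DRing.homCx C I).homology n) := by
  have h' : ∀ (m : ℤ) (x : C.X m), (C.d m (m + 1)).hom x = 0 → ∃ N w, (C.d (m - 1) m).hom w = f ^ N • x := by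
    intro m x hx
    let z : LocCohLib.Zmod C m := ⟨x, by
      show (C.d m ((ComplexShape.up ℤ).next m)).hom x = 0
      rw [CochainComplex.next]; exact hx⟩
    obtain ⟨N, hN⟩ := h m (LocCohLib.cls C m z)
    rw [← map_smul, LocCohLib.cls_eq_zero_iff, CochainComplex.prev] at hN
    obtain ⟨w, hw⟩ := hN
    exact ⟨N, w, hw⟩
  haveI := isIso_Q_of_qis _ (quasiIso_homCxPre (sumT f C) I (quasiIso_sumT f C h'))
  haveI := isIso_sumHomMap C I
  have e : DerivedCategory.Q.map (seqT f (DRing.homCx C I)) =
      inv (DerivedCategory.Q.map (sumHomMap C I)) ≫ DerivedCategory.Q.map (homCxPre (sumT f C) I) ≫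
        DerivedCategory.Q.map (sumHomMap C I) := by
    rw [← Functor.map_comp, sumHomMap_seqT, Functor.map_comp, IsIso.inv_hom_id_assoc]
  haveI : IsIso (DerivedCategory.Q.map (seqT f (DRing.homCx C I))) := e ▸ inferInstance
  haveI : QuasiIso (seqT f (DRing.homCx C I)) := (DerivedCategory.isIso_Q_map_iff_quasiIso (φ := _)).1 inferInstance
  exact dc_of_bijective _ n ((ConcreteCategory.isIso_iff_bijective _).1
    ((quasiIsoAt_iff_isIso_homologyMap _ n).1 inferInstance))

end Groth.Agent.RHomComplLib
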