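import Groth.Agent.RHomComplLib.TenSeq
import Groth.Agent.DComplLib.Completion

/-!
# Derived completion commutes with tensoring by pseudo-coherent complexes
-/

set_option autoImplicit false
set_option linter.style.haveILetI false
set_option backward.isDefEq.respectTransparency false

universe u

open CategoryTheory Limits MonoidalCategory Pretriangulated
attribute [local instance] HasDerivedCategory.standard

noncomputable section

namespace Groth.Agent.RHomComplLib

open Groth.Agent.DComplLib Groth.Agent.DRingLib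

variable {A : Type u} [CommRing A] {F : DRing.Cx A} {c : ℤ}

theorem isKFlatFor_of_free (hF : DRing.VanishesAbove F c) (hf : DRing.TermwiseFiniteFree F) :
    KFlat.IsKFlatFor (curriedTensor (ModuleCat.{u} A)) F :=
  (DTenLib.isKFlat_iff F).1 (isKFlat_of_vanishesAbove hF fun i => by
    haveI := (hf i).2; infer_instance)

theorem isInvertedBy_tensorCxQ (hF : DRing.VanishesAbove F c) (hf : DRing.TermwiseFiniteFree F) :
    (HomologicalComplex.quasiIso (ModuleCat.{u} A) (ComplexShape.up ℤ)).IsInvertedBy (DRing.tensorCxQ A F) :=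
  fun K L g hg => by
    haveI : QuasiIso g := (HomologicalComplex.mem_quasiIso_iff _).1 hg
    exact isIso_Q_of_qis _ (KFlat.quasiIso_totR_map _ (isKFlatFor_of_free hF hf) g)

theorem dc_tensor {f : A} (hF : DRing.VanishesAbove F c) (hf : DRing.TermwiseFiniteFree F)
    {X : DRing.Cx A} {b : ℤ} (hX : DRing.VanishesAbove X b) (h : ∀ n, DC f (X.homology n)) (n : ℤ) :
    DC f ((X ⊗ F : DRing.Cx A).homology n) := by
  haveI := seqT_quasiIso h
  haveI : IsIso (DerivedCategory.Q.map (seqT f X ▷ F)) := isInvertedBy_tensorCxQ hF hf (seqT f X)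
    ((HomologicalComplex.mem_quasiIso_iff _).2 inferInstance)
  haveI := isIso_seqTenMap hX hF hf
  have hext : ∀ {L M : DRing.Cx A} (a b : L ⟶ seqCx M), (∀ k, a ≫ seqProj M k = b ≫ seqProj M k) → a = b := by
    intro L M a b h
    ext i x
    funext k
    exact congr($(h k).f i |>.hom x)
  have hc : (seqT f X ▷ F) ≫ seqTenMap X F = seqTenMap X F ≫ seqT f (X ⊗ F : DRing.Cx A) := hext _ _ fun k => by
    rw [Category.assoc, Category.assoc, seqTenMap, seqLift_proj, seqT_proj, Preadditive.comp_sub,
      Linear.comp_smul, seqLift_proj, seqLift_proj, ← comp_whiskerRight, seqT_proj, whiskerRight_sub,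
      whiskerRight_smul]
  have e : DerivedCategory.Q.map (seqT f (X ⊗ F : DRing.Cx A)) =
      inv (DerivedCategory.Q.map (seqTenMap X F)) ≫ DerivedCategory.Q.map (seqT f X ▷ F) ≫
        DerivedCategory.Q.map (seqTenMap X F) := by
    rw [← Functor.map_comp, hc, Functor.map_comp, IsIso.inv_hom_id_assoc]
  haveI : IsIso (DerivedCategory.Q.map (seqT f (X ⊗ F : DRing.Cx A))) := e ▸ inferInstance
  haveI : QuasiIso (seqT f (X ⊗ F : DRing.Cx A)) :=
    (DerivedCategory.isIso_Q_map_iff_quasiIso (φ := _)).1 inferInstance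
  exact dc_of_bijective _ n ((ConcreteCategory.isIso_iff_bijective _).1
    ((quasiIsoAt_iff_isIso_homologyMap _ n).1 inferInstance))

/-- The degreewise splitting of the completion sequence. -/
def stepSplitting (f : A) (X : DRing.Cx A) (q : ℤ) :
    ((stepSC f X).map (HomologicalComplex.eval (ModuleCat.{u} A) (ComplexShape.up ℤ) q)).Splitting :=
  have h := HomologicalComplex.shortExact_iff_degreewise_shortExact (stepSC f X) |>.1 (stepSC_shortExact f X) q
  have := h.epi_g
  ShortComplex.Splitting.ofExactOfRetraction _ h.exact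
    ((CochainComplex.mappingCone.snd (phiMap f X)).v q q (add_zero q) ≫ (seqProj X 0).f q)
    (by
      show ((seqHead X ≫ CochainComplex.mappingCone.inr (phiMap f X)).f q) ≫
        (CochainComplex.mappingCone.snd (phiMap f X)).v q q (add_zero q) ≫ (seqProj X 0).f q = 𝟙 (X.X q)
      rw [HomologicalComplex.comp_f, Category.assoc, CochainComplex.mappingCone.inr_f_snd_v_assoc]
      ext x
      exact Pi.single_eq_same (M := fun _ : ℕ => X.X q) 0 x) this

theorem vanishesAbove_step (f : A) {X : DRing.Cx A} {b : ℤ} (hX : DRing.VanishesAbove X b) :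
    DRing.VanishesAbove (step f X) b := fun i hi =>
  IsZero.of_iso ((biprod_isZero_iff _ _).2 ⟨vanishesAbove_seqCx hX (i + 1) (by omega), vanishesAbove_seqCx hX i hi⟩)
    (HomologicalComplex.homotopyCofiber.XIsoBiprod (phiMap f X) i (i + 1) rfl)

theorem vanishesAbove_compList {b : ℤ} : ∀ (s : List A) {X : DRing.Cx A}, DRing.VanishesAbove X b →
    DRing.VanishesAbove (compList s X) b
  | [], _, h => h
  | f :: t, _, h => vanishesAbove_step f (vanishesAbove_compList t h)

theorem isCompl_step_tensor (f : A) (hF : DRing.VanishesAbove F c) (hf : DRing.TermwiseFiniteFree F)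
    {X : DRing.Cx A} {b : ℤ} (hX : DRing.VanishesAbove X b) :
    IsCompl {f} (DerivedCategory.Q.map (stepη f X ▷ F)) where
  mem := Set.singleton_subset_iff.2 (mem_dcIdealD.2 fun n => (dc_HD_iff (step f X ⊗ F : DRing.Cx A) n f).2
    (dc_tensor hF hf (vanishesAbove_step f hX) (fun m => (dc_HD_iff (step f X) m f).1
      (mem_dcIdealD.1 (mem_dcIdealD_step_self f X) m)) n))
  bij E hE := by
    let W := KFlat.totR (curriedTensor (ModuleCat.{u} A)) F
    have hS : ((stepSC f X).map W).ShortExact :=
      KFlat.shortExact_totR_of_splitting (curriedTensor (ModuleCat.{u} A)) F _ (stepSplitting f X)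
    let T := DerivedCategory.triangleOfSES hS
    have hT : T ∈ distTriang _ := DerivedCategory.triangleOfSES_distinguished hS
    haveI := isIso_smul_coneT f X
    haveI : QuasiIso (f • 𝟙 (coneT f X)) := (DerivedCategory.isIso_Q_map_iff_quasiIso (φ := _)).1 (by
      rw [Functor.map_smul, CategoryTheory.Functor.map_id]; infer_instance)
    have h1 : IsIso (DerivedCategory.Q.map ((f • 𝟙 (coneT f X)) ▷ F)) := isInvertedBy_tensorCxQ hF hf _
      ((HomologicalComplex.mem_quasiIso_iff _).2 inferInstance)
    have h2 : IsIso (f • 𝟙 (DerivedCategory.Q.obj (coneT f X ⊗ F : DRing.Cx A))) := by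
      rw [whiskerRight_smul, id_whiskerRight, Functor.map_smul, CategoryTheory.Functor.map_id] at h1
      exact h1
    haveI h3 : IsIso (f • 𝟙 T.obj₃) := h2
    haveI : IsIso (f • 𝟙 (T.obj₃⟦(-1 : ℤ)⟧)) := by
      rw [← CategoryTheory.Functor.map_id, ← Functor.map_smul]; infer_instance
    have hz := mem_dcIdealD.1 (hE rfl)
    refine ⟨fun g g' h => sub_eq_zero.1 ?_, fun g => ?_⟩
    · obtain ⟨k, hk⟩ := T.yoneda_exact₂ hT (g - g') (by
        show DerivedCategory.Q.map (stepη f X ▷ F) ≫ (g - g') = 0
        rw [Preadditive.comp_sub]; exact sub_eq_zero.2 h)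
      rw [hk, show k = 0 from eq_zero_of_isIso_smul (f := f) (X := T.obj₃) hz k, comp_zero]
    · obtain ⟨k, hk⟩ := T.invRotate.yoneda_exact₂ (inv_rot_of_distTriang _ hT) g
        (eq_zero_of_isIso_smul (f := f) (X := T.obj₃⟦(-1 : ℤ)⟧) hz _)
      exact ⟨k, hk.symm⟩

theorem isCompl_compList_tensor (hF : DRing.VanishesAbove F c) (hf : DRing.TermwiseFiniteFree F) {b : ℤ} :
    ∀ (s : List A) {X : DRing.Cx A}, DRing.VanishesAbove X b →
      IsCompl {g | g ∈ s} (DerivedCategory.Q.map (compListη s X ▷ F))
  | [], X, _ => ⟨fun f hf => by simp at hf, fun E _ => by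
      simp only [compListη, id_whiskerRight, CategoryTheory.Functor.map_id, Category.id_comp]
      exact Function.bijective_id⟩
  | f :: t, X, hX => by
    have e : ({g | g ∈ f :: t} : Set A) = {g | g ∈ t} ∪ {f} := by
      ext g; simp [or_comm]
    rw [e]
    have he : DerivedCategory.Q.map (compListη (f :: t) X ▷ F) =
        DerivedCategory.Q.map (compListη t X ▷ F) ≫ DerivedCategory.Q.map (stepη f (compList t X) ▷ F) := by
      rw [← Functor.map_comp, ← comp_whiskerRight]; rfl
    rw [he]
    refine (isCompl_compList_tensor hF hf t hX).comp (isCompl_step_tensor f hF hf (vanishesAbove_compList t hX))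
      fun g hg => mem_dcIdealD.2 fun n => (dc_HD_iff (step f (compList t X) ⊗ F : DRing.Cx A) n g).2 ?_
    exact dc_tensor hF hf (vanishesAbove_compList (f :: t) hX) (fun m => (dc_HD_iff (step f (compList t X)) m g).1
      (mem_dcIdealD.1 (mem_dcIdealD_step f _ ((isCompl_compList t X).mem hg)) m)) n

/-- The completion of a tensor product with a pseudo-coherent complex. -/
theorem isCompl_LTensorCx {I : Ideal A} (hI : I.FG) [DRing.HasDerivedCompletion I] [DRing.HasLTensorCx A F]
    (hF : DRing.VanishesAbove F c) (hf : DRing.TermwiseFiniteFree F) (K : Dual.D A) (b : ℤ)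
    (hK : ∀ i : ℤ, b < i → Subsingleton (Dual.HD A K i)) :
    IsCompl (I : Set A) ((DRing.LTensorCx A F).map (DRing.toDerivedCompletion I K)) := by
  obtain ⟨s, hs⟩ := exists_ofList hI
  haveI : K.IsLE b := (DerivedCategory.isLE_iff _ _).2 fun i hi => by
    haveI : Subsingleton ((DerivedCategory.homologyFunctor (ModuleCat.{u} A) i).obj K) := hK i hi
    exact ModuleCat.isZero_of_subsingleton _
  obtain ⟨X, hX, ⟨eX⟩⟩ := DerivedCategory.exists_iso_Q_obj_of_isLE K b
  have hXb : DRing.VanishesAbove X b := fun i hi => X.isZero_of_isStrictlyLE b i hi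
  let ν := (DRing.tensorCxQ A F).totalLeftDerivedCounit DerivedCategory.Q
    (HomologicalComplex.quasiIso (ModuleCat.{u} A) (ComplexShape.up ℤ))
  haveI : IsIso ν := Functor.isIso_of_isLeftDerivedFunctor_of_inverts (DRing.LTensorCx A F) ν
    (isInvertedBy_tensorCxQ hF hf)
  obtain ⟨e, he⟩ := (((isCompl_compList s X).span hs).of_iso eX).exists_iso
    (isCompl_toDerivedCompletion (I := I) K)
  have n : (DRing.LTensorCx A F).map (DerivedCategory.Q.map (compListη s X)) ≫ ν.app (compList s X) =
      ν.app X ≫ DerivedCategory.Q.map (compListη s X ▷ F) := ν.naturality (compListη s X)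
  have n' : (DRing.LTensorCx A F).map (DerivedCategory.Q.map (compListη s X)) =
      ν.app X ≫ DerivedCategory.Q.map (compListη s X ▷ F) ≫ inv (ν.app (compList s X)) := by
    rw [← Category.assoc, ← n, Category.assoc, IsIso.hom_inv_id, Category.comp_id]
  rw [← he, Functor.map_comp, Functor.map_comp, n']
  exact (((((isCompl_compList_tensor hF hf s hXb).span hs).of_iso_target (asIso (ν.app (compList s X))).symm).of_iso
    (asIso (ν.app X))).of_iso ((DRing.LTensorCx A F).mapIso eX)).of_iso_target ((DRing.LTensorCx A F).mapIso e)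

end Groth.Agent.RHomComplLib
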