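import Groth.Agent.RHomComplLib.Ten
import Groth.Agent.DRingLib.TensorAmp
import Groth.Agent.DRingLib.RestrictAmp
import Groth.Agent.DRingLib.PseudoCoherent

/-!
# Derived completion and derived tensor products with finite modules
-/

set_option autoImplicit false
set_option linter.style.haveILetI false
set_option backward.isDefEq.respectTransparency false

universe u

open CategoryTheory Limits MonoidalCategory
attribute [local instance] HasDerivedCategory.standard

noncomputable section

namespace Groth.Agent.RHomComplLib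

open Groth.Agent.DComplLib Groth.Agent.DRingLib Groth.Agent.DTenLib

variable {A : Type u} [CommRing A] (M : ModuleCat.{u} A)

section Theta

variable [DRing.HasLTensor A M]

/-- The comparison from the derived tensor product to the termwise one. -/
def theta : DerivedCategory.Q ⋙ DRing.LTensor A M ⟶ tensM M ⋙ DerivedCategory.Q :=
  Functor.whiskerRight (DerivedCategory.quotientCompQhIso (ModuleCat.{u} A)).inv (DRing.LTensor A M) ≫
    Functor.whiskerLeft (HomotopyCategory.quotient (ModuleCat.{u} A) (ComplexShape.up ℤ))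
      ((DRing.tensorKh A M).totalLeftDerivedCounit DerivedCategory.Qh
        (HomotopyCategory.quasiIso (ModuleCat.{u} A) (ComplexShape.up ℤ))) ≫
    Functor.whiskerRight ((tensorRight M).mapHomotopyCategoryFactors (ComplexShape.up ℤ)).hom DerivedCategory.Qh ≫
    Functor.whiskerLeft ((tensorRight M).mapHomologicalComplex (ComplexShape.up ℤ))
      (DerivedCategory.quotientCompQhIso (ModuleCat.{u} A)).hom ≫
    Functor.whiskerRight (NatIso.mapHomologicalComplex (BraidedCategory.tensorLeftIsoTensorRight M)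
      (ComplexShape.up ℤ)).inv DerivedCategory.Q

theorem isIso_theta_app (K : DRing.Cx A) (hK : DRing.IsKFlat A K) : IsIso ((theta M).app K) := by
  have e : (theta M).app K = (ltensorIso M K hK).hom := by
    simp [theta, ltensorIso]
  rw [e]
  infer_instance

theorem exists_natIso (F : DRing.Cx A) {c : ℤ} (hF : DRing.VanishesAbove F c) (hf : DRing.TermwiseFiniteFree F)
    (eF : DRing.toD F ≅ Dual.inD A M) :
    Nonempty (DerivedCategory.Q ⋙ DRing.LTensor A M ≅ DRing.tensorCxQ A F) := by
  let Q := DerivedCategory.Q (C := ModuleCat.{u} A)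
  let P := resA A
  let π := resAπ A
  haveI hπ : ∀ X, QuasiIso (π.app X) := fun X => quasiIso_resAπ X
  let a : Q ⋙ DRing.LTensor A M ≅ P ⋙ Q ⋙ DRing.LTensor A M :=
    (NatIso.ofComponents (F := P ⋙ Q ⋙ DRing.LTensor A M) (G := Q ⋙ DRing.LTensor A M)
      (fun X => (DRing.LTensor A M).mapIso
        (@asIso _ _ _ _ (Q.map (π.app X)) (isIso_Q_of_quasiIso _ (hπ X))))
      (fun {X Y} g => by
        show (DRing.LTensor A M).map (Q.map (P.map g)) ≫ (DRing.LTensor A M).map (Q.map (π.app Y)) =
          (DRing.LTensor A M).map (Q.map (π.app X)) ≫ (DRing.LTensor A M).map (Q.map g)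
        rw [← Functor.map_comp, ← Functor.map_comp, ← Functor.map_comp, ← Functor.map_comp, π.naturality]
        rfl)).symm
  haveI : ∀ X, IsIso ((Functor.whiskerLeft P (theta M)).app X) := fun X =>
    isIso_theta_app M (P.obj X) (isKFlat_resA X)
  haveI : IsIso (Functor.whiskerLeft P (theta M)) := NatIso.isIso_of_isIso_app _
  let b : P ⋙ Q ⋙ DRing.LTensor A M ≅ P ⋙ tensM M ⋙ Q := asIso (Functor.whiskerLeft P (theta M))
  let t : tensM M ≅ tensorLeft (single₀ M) :=
    singleTotRIso M ≪≫ (KFlat.totRIso (curriedTensor (ModuleCat.{u} A)).flip (single₀ M)).symm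
  let eQ : Q.obj F ≅ Q.obj (single₀ M) :=
    eF ≪≫ ((DerivedCategory.singleFunctorIsoCompQ (ModuleCat.{u} A) 0).app M)
  obtain ⟨Z, s, hs, g, hg⟩ := DerivedCategory.right_fac eQ.hom
  haveI := hs
  haveI : IsIso (Q.map g) := by
    rw [show Q.map g = Q.map s ≫ eQ.hom by rw [hg, IsIso.hom_inv_id_assoc]]
    infer_instance
  have hsq : QuasiIso s := (DerivedCategory.isIso_Q_map_iff_quasiIso (φ := s)).1 hs
  have hgq : QuasiIso g := (DerivedCategory.isIso_Q_map_iff_quasiIso (φ := g)).1 inferInstance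
  haveI := hsq
  haveI := hgq
  haveI hs' : ∀ X, IsIso (Q.map (s ▷ P.obj X)) := fun X =>
    isIso_Q_of_quasiIso _ (quasiIso_whiskerRight s (isKFlat_resA X))
  haveI hg' : ∀ X, IsIso (Q.map (g ▷ P.obj X)) := fun X =>
    isIso_Q_of_quasiIso _ (quasiIso_whiskerRight g (isKFlat_resA X))
  let d : P ⋙ tensorLeft (single₀ M) ⋙ Q ≅ P ⋙ tensorLeft F ⋙ Q :=
    NatIso.ofComponents (fun X => (asIso (Q.map (g ▷ P.obj X))).symm ≪≫ asIso (Q.map (s ▷ P.obj X)))
      (fun {X Y} h => by
        show Q.map (single₀ M ◁ P.map h) ≫ inv (Q.map (g ▷ P.obj Y)) ≫ Q.map (s ▷ P.obj Y) =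
          (inv (Q.map (g ▷ P.obj X)) ≫ Q.map (s ▷ P.obj X)) ≫ Q.map (F ◁ P.map h)
        rw [← cancel_epi (Q.map (g ▷ P.obj X)), Category.assoc, IsIso.hom_inv_id_assoc, ← Functor.map_comp_assoc,
          ← whisker_exchange, Functor.map_comp_assoc, IsIso.hom_inv_id_assoc, ← Functor.map_comp,
          whisker_exchange, Functor.map_comp])
  have hb : ∀ X Y : DRing.Cx A, ∀ h : X ⟶ Y, (F ◁ h) ≫ (DTen.braidCx F Y).hom = (DTen.braidCx F X).hom ≫ (h ▷ F) :=
    fun X Y h => by
      have := DTen.braidCx_naturality (𝟙 F) h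
      rw [tensorHom_id, id_tensorHom] at this
      exact this
  haveI : ∀ X, IsIso ((DRing.tensorCxQ A F).map (π.app X)) := fun X =>
    isInvertedBy_tensorCxQ hF hf _ ((HomologicalComplex.mem_quasiIso_iff _).2 (hπ X))
  let e : P ⋙ tensorLeft F ⋙ Q ≅ DRing.tensorCxQ A F :=
    NatIso.ofComponents (fun X => Q.mapIso (DTen.braidCx F (P.obj X)) ≪≫ asIso ((DRing.tensorCxQ A F).map (π.app X)))
      (fun {X Y} h => by
        show Q.map (F ◁ P.map h) ≫ Q.map (DTen.braidCx F (P.obj Y)).hom ≫ Q.map (π.app Y ▷ F) =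
          (Q.map (DTen.braidCx F (P.obj X)).hom ≫ Q.map (π.app X ▷ F)) ≫ Q.map (h ▷ F)
        simp only [Category.assoc, ← Functor.map_comp]
        rw [reassoc_of% (hb _ _ (P.map h)), ← comp_whiskerRight, ← comp_whiskerRight, π.naturality]
        rfl)
  exact ⟨a ≪≫ b ≪≫ Functor.isoWhiskerLeft P (Functor.isoWhiskerRight t Q) ≪≫ d ≪≫ e⟩

theorem isCompl_LTensor [IsNoetherianRing A] [Module.Finite A M] (I : Ideal A) [DRing.HasDerivedCompletion I]
    (K : Dual.D A) (b : ℤ) (hK : ∀ i : ℤ, b < i → Subsingleton (Dual.HD A K i)) :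
    IsCompl (I : Set A) ((DRing.LTensor A M).map (DRing.toDerivedCompletion I K)) := by
  obtain ⟨F, c, hF, hf, ⟨eF⟩⟩ : DRing.IsPseudoCoherent' A (Dual.inD A M) :=
    (isPseudoCoherent'_iff _).2 fun m => (pc_inD_of_finite (-m).toNat M).mono (by omega)
  obtain ⟨Φ⟩ := exists_natIso M F hF hf eF
  obtain ⟨s, hs⟩ := exists_ofList (IsNoetherian.noetherian I)
  haveI : K.IsLE b := (DerivedCategory.isLE_iff _ _).2 fun i hi => by
    haveI : Subsingleton ((DerivedCategory.homologyFunctor (ModuleCat.{u} A) i).obj K) := hK i hi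
    exact ModuleCat.isZero_of_subsingleton _
  obtain ⟨X, hX, ⟨eX⟩⟩ := DerivedCategory.exists_iso_Q_obj_of_isLE K b
  have hXb : DRing.VanishesAbove X b := fun i hi => X.isZero_of_isStrictlyLE b i hi
  obtain ⟨e, he⟩ := (((isCompl_compList s X).span hs).of_iso eX).exists_iso
    (isCompl_toDerivedCompletion (I := I) K)
  have n : (DRing.LTensor A M).map (DerivedCategory.Q.map (compListη s X)) ≫ Φ.hom.app (compList s X) =
      Φ.hom.app X ≫ DerivedCategory.Q.map (compListη s X ▷ F) := Φ.hom.naturality (compListη s X)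
  have n' : (DRing.LTensor A M).map (DerivedCategory.Q.map (compListη s X)) =
      (Φ.app X).hom ≫ DerivedCategory.Q.map (compListη s X ▷ F) ≫ (Φ.app (compList s X)).inv := by
    rw [← Category.assoc, Iso.eq_comp_inv]
    exact n
  rw [← he, Functor.map_comp, Functor.map_comp, n']
  exact (((((isCompl_compList_tensor hF hf s hXb).span hs).of_iso_target (Φ.app (compList s X)).symm).of_iso
    (Φ.app X)).of_iso ((DRing.LTensor A M).mapIso eX)).of_iso_target ((DRing.LTensor A M).mapIso e)

end Theta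

end Groth.Agent.RHomComplLib
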