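import Groth.Agent.RHomComplLib.HomCx
import Groth.Agent.DRingLib.TensorPerfect

/-!
# Sequences commute with tensor products by bounded above complexes of finite free modules
-/

set_option autoImplicit false
set_option linter.style.haveILetI false
set_option backward.isDefEq.respectTransparency false

universe u

open CategoryTheory Limits MonoidalCategory HomologicalComplex
open scoped TensorProduct
attribute [local instance] HasDerivedCategory.standard

noncomputable section

namespace Groth.Agent.RHomComplLib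

open Groth.Agent.DComplLib Groth.Agent.DRingLib

variable {A : Type u} [CommRing A]

/-- Sequences in a module, as a functor. -/
def seqM : ModuleCat.{u} A ⥤ ModuleCat.{u} A where
  obj M := ModuleCat.of A (ℕ → M)
  map g := ModuleCat.ofHom (g.hom.compLeft ℕ)

instance : (seqM (A := A)).Additive where
  map_add := rfl

/-- Sequences tensored with a module, into sequences of tensors. -/
def seqTen (M N : ModuleCat.{u} A) : seqM.obj M ⊗ N ⟶ seqM.obj (M ⊗ N) :=
  ModuleCat.ofHom (LinearMap.pi fun k => LinearMap.rTensor N (LinearMap.proj (R := A) (φ := fun _ : ℕ => M) k))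

theorem isIso_seqTen (M N : ModuleCat.{u} A) [Module.Finite A N] [Module.Free A N] : IsIso (seqTen M N) := by
  classical
  let κ := Module.Free.ChooseBasisIndex A N
  let eN : N ≃ₗ[A] (κ → A) := (Module.Free.chooseBasis A N).equivFun
  let e : ∀ (M' : Type u) [AddCommGroup M'] [Module A M'], M' ⊗[A] N ≃ₗ[A] (κ → M') := fun M' _ _ =>
    (TensorProduct.congr (LinearEquiv.refl A M') eN).trans (TensorProduct.piScalarRight A A M' κ)
  refine (ConcreteCategory.isIso_iff_bijective _).2 ?_
  let θ : (ℕ → M) ⊗[A] N →ₗ[A] (ℕ → M ⊗[A] N) :=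
    LinearMap.pi fun k => LinearMap.rTensor N (LinearMap.proj (R := A) (φ := fun _ : ℕ => M) k)
  let G : ((ℕ → M) ⊗[A] N) ≃ (ℕ → M ⊗[A] N) :=
    ((e (ℕ → M)).toEquiv.trans ⟨fun z k i => z i k, fun z i k => z k i, fun _ => rfl, fun _ => rfl⟩).trans
      (Equiv.piCongrRight fun _ : ℕ => (e M).symm.toEquiv)
  have he : ∀ x, θ x = G x := fun x => by
    funext k
    apply (e M).injective
    refine Eq.trans ?_ ((e M).apply_symm_apply _).symm
    induction x using TensorProduct.induction_on with
    | zero =>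
      funext i
      show e M (θ 0 k) i = e (ℕ → M) 0 i k
      simp
    | add a b ha hb =>
      funext i
      show e M (θ (a + b) k) i = e (ℕ → M) (a + b) i k
      rw [map_add, Pi.add_apply, map_add, map_add]
      exact congrArg₂ (· + ·) (congrFun ha i) (congrFun hb i)
    | tmul z y =>
      funext i
      show e M (z k ⊗ₜ[A] y) i = e (ℕ → M) (z ⊗ₜ[A] y) i k
      simp [e]
  show Function.Bijective θ
  rw [show ⇑θ = ⇑G from funext he]
  exact G.bijective

variable (X F : DRing.Cx A)

/-- The comparison of sequences. -/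
def seqTenMap : (seqCx X ⊗ F : DRing.Cx A) ⟶ seqCx (X ⊗ F : DRing.Cx A) :=
  seqLift fun k => seqProj X k ▷ F

theorem ι_seqTenMap (p q n : ℤ) (h : p + q = n) :
    ιTensorObj (seqCx X) F p q n h ≫ (seqTenMap X F).f n =
      seqTen (X.X p) (F.X q) ≫ seqM.map (ιTensorObj X F p q n h) := by
  refine ModuleCat.hom_ext (TensorProduct.ext' fun z y => funext fun k => ?_)
  have e := ι_mapBifunctorMap (seqProj X k) (𝟙 F) (curriedTensor (ModuleCat.{u} A)) (ComplexShape.up ℤ) p q n h
  exact congr($(e).hom (z ⊗ₜ[A] y))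

variable {X F}

/-- The projection to a summand. -/
def tenProj (X F : DRing.Cx A) (n p : ℤ) : (X ⊗ F : DRing.Cx A).X n ⟶ X.X p ⊗ F.X (n - p) :=
  mapBifunctorDesc fun p' q' h =>
    if hp : p' = p then eqToHom (by
      have h' : p' + q' = n := h
      subst hp
      rw [show q' = n - p' by omega]
      rfl) else 0

theorem ι_tenProj (n p p' : ℤ) :
    ιTensorObj X F p' (n - p') n (add_sub_cancel p' n) ≫ tenProj X F n p =
      if hp : p' = p then eqToHom (by rw [hp]) else 0 :=
  ι_mapBifunctorDesc (K₁ := X) (K₂ := F) (F := curriedTensor (ModuleCat.{u} A)) _ p' (n - p') _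

theorem hom_ext_ten {b c : ℤ} (hX : DRing.VanishesAbove X b) (hF : DRing.VanishesAbove F c) {n : ℤ}
    {T : ModuleCat.{u} A} {g g' : (X ⊗ F : DRing.Cx A).X n ⟶ T}
    (h : ∀ p ∈ Finset.Icc (n - c) b, ιTensorObj X F p (n - p) n (add_sub_cancel p n) ≫ g =
      ιTensorObj X F p (n - p) n (add_sub_cancel p n) ≫ g') : g = g' := by
  refine mapBifunctor.hom_ext fun p q hpq => ?_
  obtain rfl : q = n - p := by
    have : p + q = n := hpq
    omega
  by_cases hp : p ∈ Finset.Icc (n - c) b
  · exact h p hp
  · rw [Finset.mem_Icc, not_and_or, not_le, not_le] at hp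
    rcases hp with hp | hp
    · exact ((tensorLeft (X.X p)).map_isZero (hF (n - p) (by omega))).eq_of_src _ _
    · exact ((tensorRight (F.X (n - p))).map_isZero (hX p hp)).eq_of_src _ _

theorem sum_tenProj {b c : ℤ} (hX : DRing.VanishesAbove X b) (hF : DRing.VanishesAbove F c) (n : ℤ) :
    ∑ p ∈ Finset.Icc (n - c) b, tenProj X F n p ≫ ιTensorObj X F p (n - p) n (add_sub_cancel p n) = 𝟙 _ := by
  refine hom_ext_ten hX hF fun p' hp' => ?_
  rw [Preadditive.comp_sum, Finset.sum_eq_single_of_mem p' hp' (fun p _ hne => by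
    rw [← Category.assoc, ι_tenProj, dif_neg (fun e => hne e.symm), zero_comp]), ← Category.assoc, ι_tenProj,
    dif_pos rfl, eqToHom_refl, Category.id_comp]
  exact (Category.comp_id _).symm

theorem vanishesAbove_seqCx {b : ℤ} (hX : DRing.VanishesAbove X b) : DRing.VanishesAbove (seqCx X) b :=
  fun i hi => (seqM (A := A)).map_isZero (hX i hi)

/-- Sequences commute with tensoring by a bounded above complex of finite free modules. -/
theorem isIso_seqTenMap {b c : ℤ} (hX : DRing.VanishesAbove X b) (hF : DRing.VanishesAbove F c)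
    (hf : DRing.TermwiseFiniteFree F) : IsIso (seqTenMap X F) := by
  haveI : ∀ n, IsIso ((seqTenMap X F).f n) := fun n => by
    haveI : ∀ p, IsIso (seqTen (X.X p) (F.X (n - p))) := fun p =>
      @isIso_seqTen A _ (X.X p) (F.X (n - p)) (hf _).1 (hf _).2
    refine ⟨∑ p ∈ Finset.Icc (n - c) b, seqM.map (tenProj X F n p) ≫ inv (seqTen (X.X p) (F.X (n - p))) ≫
      ιTensorObj (seqCx X) F p (n - p) n (add_sub_cancel p n), ?_, ?_⟩
    · refine hom_ext_ten (vanishesAbove_seqCx hX) hF fun p' hp' => ?_
      refine Eq.trans ?_ (Category.comp_id _).symm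
      rw [← Category.assoc, ι_seqTenMap, Category.assoc, Preadditive.comp_sum,
        Finset.sum_eq_single_of_mem p' hp' (fun p _ hne => by
          rw [← Category.assoc, ← Functor.map_comp, ι_tenProj, dif_neg (fun e => hne e.symm), Functor.map_zero,
            zero_comp]),
        ← Category.assoc (seqM.map _) (seqM.map _), ← Functor.map_comp, ι_tenProj, dif_pos rfl, eqToHom_refl,
        CategoryTheory.Functor.map_id, Category.id_comp, IsIso.hom_inv_id_assoc]
    · rw [Preadditive.sum_comp]
      simp only [Category.assoc, ι_seqTenMap, IsIso.inv_hom_id_assoc, ← Functor.map_comp]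
      rw [← Functor.map_sum, sum_tenProj hX hF]
      exact seqM.map_id _
  exact HomologicalComplex.Hom.isIso_of_components _

theorem whiskerRight_sub {K L : DRing.Cx A} (a b : K ⟶ L) (G : DRing.Cx A) : (a - b) ▷ G = a ▷ G - b ▷ G :=
  haveI := KFlat.additive_totR (curriedTensor (ModuleCat.{u} A)) G
  (KFlat.totR (curriedTensor (ModuleCat.{u} A)) G).map_sub

theorem whiskerRight_smul (f : A) {K L : DRing.Cx A} (a : K ⟶ L) (G : DRing.Cx A) : (f • a) ▷ G = f • (a ▷ G) := by
  refine HomologicalComplex.hom_ext _ _ fun n => mapBifunctor.hom_ext fun p q h => ?_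
  have e₁ := ι_mapBifunctorMap (f • a) (𝟙 G) (curriedTensor (ModuleCat.{u} A)) (ComplexShape.up ℤ) p q n h
  have e₂ := ι_mapBifunctorMap a (𝟙 G) (curriedTensor (ModuleCat.{u} A)) (ComplexShape.up ℤ) p q n h
  refine e₁.trans (Eq.trans ?_ ((congrArg (f • ·) e₂).symm.trans (Linear.comp_smul _ _ _ _ _ _).symm))
  refine ModuleCat.hom_ext (TensorProduct.ext' fun x y => ?_)
  show (ιTensorObj L G p q n h).hom ((f • (a.f p).hom x) ⊗ₜ[A] y) =
    f • (ιTensorObj L G p q n h).hom ((a.f p).hom x ⊗ₜ[A] y)
  exact (congrArg (fun z => (ιTensorObj L G p q n h).hom z)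
    (TensorProduct.smul_tmul' f ((a.f p).hom x) y).symm).trans (map_smul _ _ _)

end Groth.Agent.RHomComplLib
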